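import Groth.Agent.Lib.GeomReg.FG
import Groth.Agent.Lib.RegLoc.Basic
import Groth.Agent.Lib.Serre.Ring
import Groth.Prelude.Def_EGA4b
import Mathlib.RingTheory.Spectrum.Prime.Noetherian
import Mathlib.RingTheory.Localization.Ideal

/-!
# Nagata's criterion for openness of the regular locus
-/

set_option autoImplicit false
set_option linter.style.haveILetI false
universe u

open IsLocalRing

namespace GrothLib.J2

/-- Generic regularity of a domain. -/
def IsJ0 (S : Type u) [CommRing S] : Prop :=
  ∃ f : S, f ≠ 0 ∧ IsRegularRing (Localization.Away f)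

/-- The regular locus of a localisation. -/
theorem isRegularLocalRing_iff_comap {R T : Type u} [CommRing R] [CommRing T] [Algebra R T]
    (M : Submonoid R) [IsLocalization M T] (P : Ideal T) [P.IsPrime] :
    IsRegularLocalRing (Localization.AtPrime P) ↔
      IsRegularLocalRing (Localization.AtPrime (P.comap (algebraMap R T))) := by
  have h := IsLocalization.isLocalization_isLocalization_atPrime_isLocalization M (Localization.AtPrime P) P
  let e := (IsLocalization.algEquiv (P.comap (algebraMap R T)).primeCompl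
    (Localization.AtPrime (P.comap (algebraMap R T))) (Localization.AtPrime P)).toRingEquiv
  exact ⟨fun _ => IsRegularLocalRing.of_ringEquiv e.symm, fun _ => IsRegularLocalRing.of_ringEquiv e⟩

theorem isRegularLocalRing_congr {R : Type u} [CommRing R] {p q : Ideal R} [p.IsPrime] [q.IsPrime] (h : p = q)
    (hp : IsRegularLocalRing (Localization.AtPrime p)) : IsRegularLocalRing (Localization.AtPrime q) := by
  subst h; exact hp

theorem mem_regLocus_iff {R : Type u} [CommRing R] (q : PrimeSpectrum R) :
    q ∈ EGA4.regLocus R ↔ IsRegularLocalRing (Localization.AtPrime q.asIdeal) := Iff.rfl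

/-- A ring regular away from `f` is regular at every prime avoiding `f`. -/
theorem isRegularLocalRing_of_away {R : Type u} [CommRing R] (f : R)
    [IsRegularRing (Localization.Away f)] (q : Ideal R) [q.IsPrime] (hf : f ∉ q) :
    IsRegularLocalRing (Localization.AtPrime q) := by
  have hdisj : Disjoint (Submonoid.powers f : Set R) q := by
    rw [Set.disjoint_left]
    rintro _ ⟨n, rfl⟩ hn
    exact hf (Ideal.IsPrime.mem_of_pow_mem inferInstance n hn)
  let P := q.map (algebraMap R (Localization.Away f))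
  haveI : P.IsPrime := IsLocalization.isPrime_of_isPrime_disjoint (Submonoid.powers f) _ q ‹_› hdisj
  have h := (isRegularLocalRing_iff_comap (Submonoid.powers f) P).mp inferInstance
  have heq : P.comap (algebraMap R (Localization.Away f)) = q :=
    IsLocalization.comap_map_of_isPrime_disjoint (Submonoid.powers f) _ ‹_› hdisj
  exact isRegularLocalRing_congr heq h

/-- A ring regular at every prime avoiding `f` is regular away from `f`. -/
theorem isRegularRing_away {R : Type u} [CommRing R] [IsNoetherianRing R] (f : R)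
    (h : ∀ q : PrimeSpectrum R, f ∉ q.asIdeal → q ∈ EGA4.regLocus R) :
    IsRegularRing (Localization.Away f) := by
  haveI : IsNoetherianRing (Localization.Away f) :=
    IsLocalization.isNoetherianRing (Submonoid.powers f) _ inferInstance
  rw [isRegularRing_iff]
  intro P _
  refine (isRegularLocalRing_iff_comap (Submonoid.powers f) P).mpr
    (h ⟨P.comap (algebraMap R _), inferInstance⟩ fun hf => ?_)
  exact (inferInstance : P.IsPrime).ne_top (P.eq_top_of_isUnit_mem hf
    (IsLocalization.map_units _ (⟨f, Submonoid.mem_powers f⟩ : Submonoid.powers f)))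

theorem isJ0_iff {S : Type u} [CommRing S] [IsDomain S] [IsNoetherianRing S] :
    IsJ0 S ↔ ∃ U : Set (PrimeSpectrum S), IsOpen U ∧ U.Nonempty ∧ U ⊆ EGA4.regLocus S := by
  constructor
  · rintro ⟨f, hf, hreg⟩
    exact ⟨PrimeSpectrum.basicOpen f, (PrimeSpectrum.basicOpen f).2, ⟨⟨⊥, Ideal.isPrime_bot⟩, hf⟩,
      fun q hq => isRegularLocalRing_of_away f q.asIdeal hq⟩
  · rintro ⟨U, hU, ⟨x, hx⟩, hreg⟩
    obtain ⟨_, ⟨f, rfl⟩, hxf, hfU⟩ :=
      PrimeSpectrum.isTopologicalBasis_basic_opens.exists_subset_of_mem_open hx hU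
    exact ⟨f, fun h0 => hxf (h0 ▸ x.asIdeal.zero_mem), isRegularRing_away f fun q hq => hreg (hfU hq)⟩

/-- Regularity is stable under generalisation. -/
theorem regLocus_stable {S : Type u} [CommRing S] {p q : PrimeSpectrum S} (h : p.asIdeal ≤ q.asIdeal)
    (hq : q ∈ EGA4.regLocus S) : p ∈ EGA4.regLocus S := by
  haveI : IsRegularLocalRing (Localization.AtPrime q.asIdeal) := hq
  have hdisj : Disjoint (q.asIdeal.primeCompl : Set S) p.asIdeal :=
    Set.disjoint_left.mpr fun x hx hp => hx (h hp)
  let P := p.asIdeal.map (algebraMap S (Localization.AtPrime q.asIdeal))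
  haveI : P.IsPrime := IsLocalization.isPrime_of_isPrime_disjoint q.asIdeal.primeCompl _ _ inferInstance hdisj
  haveI := GrothLib.Serre.isRegularLocalRing_localization (Localization.AtPrime q.asIdeal) P (Localization.AtPrime P)
  have h1 := (isRegularLocalRing_iff_comap q.asIdeal.primeCompl P).mp inferInstance
  rw [mem_regLocus_iff]
  exact isRegularLocalRing_congr (IsLocalization.comap_map_of_isPrime_disjoint q.asIdeal.primeCompl (Localization.AtPrime q.asIdeal) inferInstance hdisj) h1

/-- The local ring of a quotient is the quotient of the local ring. -/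
theorem exists_quotient_equiv {S : Type u} [CommRing S] (I q : Ideal S) [q.IsPrime] (hI : I ≤ q)
    [(q.map (Ideal.Quotient.mk I)).IsPrime] :
    Nonempty (Localization.AtPrime q ⧸ I.map (algebraMap S (Localization.AtPrime q)) ≃+*
      Localization.AtPrime (q.map (Ideal.Quotient.mk I))) := by
  let Sq := Localization.AtPrime q
  let J := I.map (algebraMap S Sq)
  letI : Algebra (S ⧸ I) (Sq ⧸ J) :=
    (Ideal.quotientMap J (algebraMap S Sq) Ideal.le_comap_map).toAlgebra
  haveI : IsLocalization (q.primeCompl.map (Ideal.Quotient.mk I)) (Sq ⧸ J) :=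
    IsLocalization.of_surjective q.primeCompl Sq (Ideal.Quotient.mk I) Ideal.Quotient.mk_surjective
      (Ideal.Quotient.mk J) Ideal.Quotient.mk_surjective rfl (by
        rw [Ideal.mk_ker, Ideal.mk_ker])
  have hmap : q.primeCompl.map (Ideal.Quotient.mk I) = (q.map (Ideal.Quotient.mk I)).primeCompl := by
    ext y
    obtain ⟨y, rfl⟩ := Ideal.Quotient.mk_surjective y
    constructor
    · rintro ⟨z, hz, he⟩ hy
      rw [SetLike.mem_coe, Ideal.mem_map_iff_of_surjective _ Ideal.Quotient.mk_surjective] at hy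
      obtain ⟨w, hw, hwe⟩ := hy
      refine hz ?_
      have h1 : z - w ∈ I := Ideal.Quotient.eq.mp (he.trans hwe.symm)
      simpa using q.add_mem (hI h1) hw
    · exact fun hy => ⟨y, fun hy' => hy (Ideal.mem_map_of_mem _ hy'), rfl⟩
  haveI : IsLocalization.AtPrime (Sq ⧸ J) (q.map (Ideal.Quotient.mk I)) := by
    show IsLocalization (q.map (Ideal.Quotient.mk I)).primeCompl (Sq ⧸ J)
    rw [← hmap]; infer_instance
  exact ⟨(IsLocalization.algEquiv (q.map (Ideal.Quotient.mk I)).primeCompl (Sq ⧸ J) _).toRingEquiv⟩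

/-- Regular points propagate over a dense open of their closure. -/
theorem exists_regular_nhd : ∀ (d : ℕ) (S : Type u) [CommRing S] [IsNoetherianRing S] (p : Ideal S) [p.IsPrime]
    [IsRegularLocalRing (Localization.AtPrime p)],
    (maximalIdeal (Localization.AtPrime p)).spanFinrank = d → IsJ0 (S ⧸ p) →
      ∃ g ∉ p, ∀ q : PrimeSpectrum S, p ≤ q.asIdeal → g ∉ q.asIdeal → q ∈ EGA4.regLocus S := by
  intro d
  induction d with
  | zero =>
    intro S _ _ p _ _ hd hJ
    obtain ⟨f, hf, hreg⟩ := hJ
    obtain ⟨f, rfl⟩ := Ideal.Quotient.mk_surjective f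
    have hm : maximalIdeal (Localization.AtPrime p) = ⊥ :=
      (Submodule.spanFinrank_eq_zero_iff_eq_bot (IsNoetherian.noetherian _)).mp hd
    obtain ⟨n, a, ha⟩ := Submodule.fg_iff_exists_fin_generating_family.mp (IsNoetherian.noetherian p)
    have h0 : ∀ i, ∃ s ∉ p, s * a i = 0 := fun i => by
      have hi : a i ∈ p := ha ▸ Submodule.subset_span ⟨i, rfl⟩
      have h1 : algebraMap S (Localization.AtPrime p) (a i) = 0 := by
        rw [← Ideal.mem_bot, ← hm, ← Localization.AtPrime.map_eq_maximalIdeal]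
        exact Ideal.mem_map_of_mem _ hi
      obtain ⟨⟨s, hs⟩, h2⟩ := (IsLocalization.map_eq_zero_iff p.primeCompl _ _).mp h1
      exact ⟨s, hs, h2⟩
    choose s hs hsa using h0
    refine ⟨f * ∏ i, s i, fun h => ?_, fun q hpq hg => ?_⟩
    · rcases Ideal.IsPrime.mem_or_mem inferInstance h with h | h
      · exact hf (Ideal.Quotient.eq_zero_iff_mem.mpr h)
      · obtain ⟨i, -, hi⟩ := (Ideal.IsPrime.prod_mem_iff (p := p)).mp h
        exact hs i hi
    · have hfq : f ∉ q.asIdeal := fun h => hg (q.asIdeal.mul_mem_right _ h)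
      have hsq : ∀ i, s i ∉ q.asIdeal := fun i h => hg (q.asIdeal.mul_mem_left _
        ((Ideal.IsPrime.prod_mem_iff (p := q.asIdeal)).mpr ⟨i, Finset.mem_univ _, h⟩))
      haveI : (q.asIdeal.map (Ideal.Quotient.mk p)).IsPrime :=
        Ideal.map_isPrime_of_surjective Ideal.Quotient.mk_surjective (by rwa [Ideal.mk_ker])
      obtain ⟨e⟩ := exists_quotient_equiv p q.asIdeal hpq
      have hbot : p.map (algebraMap S (Localization.AtPrime q.asIdeal)) = ⊥ := by
        rw [← ha, eq_bot_iff, Ideal.map_le_iff_le_comap, Submodule.span_le]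
        rintro _ ⟨i, rfl⟩
        exact (IsLocalization.map_eq_zero_iff q.asIdeal.primeCompl _ _).mpr ⟨⟨s i, hsq i⟩, hsa i⟩
      haveI : IsRegularLocalRing (Localization.AtPrime (q.asIdeal.map (Ideal.Quotient.mk p))) :=
        isRegularLocalRing_of_away (Ideal.Quotient.mk p f) _ fun h => hfq (by
          rw [Ideal.mem_map_iff_of_surjective _ Ideal.Quotient.mk_surjective] at h
          obtain ⟨w, hw, hwe⟩ := h
          simpa using q.asIdeal.sub_mem hw (hpq (Ideal.Quotient.eq.mp hwe)))
      exact IsRegularLocalRing.of_ringEquiv (e.symm.trans ((Ideal.quotEquivOfEq hbot).trans (RingEquiv.quotientBot _)))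
  | succ d ih =>
    intro S _ _ p _ _ hd hJ
    have hlt : maximalIdeal (Localization.AtPrime p) ^ 2 < maximalIdeal (Localization.AtPrime p) := by
      refine lt_of_le_of_ne (Ideal.pow_le_self two_ne_zero) fun h => ?_
      have h0 := Submodule.eq_bot_of_le_smul_of_le_jacobson_bot (maximalIdeal (Localization.AtPrime p))
        (maximalIdeal (Localization.AtPrime p)) (IsNoetherian.noetherian _)
        (by rw [smul_eq_mul, ← sq, h]) (maximalIdeal_le_jacobson _)
      rw [h0, Submodule.spanFinrank_bot] at hd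
      omega
    obtain ⟨x₁, hx₁, hx₁'⟩ := SetLike.exists_of_lt hlt
    obtain ⟨⟨x, s⟩, hxs⟩ := IsLocalization.surj p.primeCompl x₁
    let y := algebraMap S (Localization.AtPrime p) x
    have hxs' : x₁ * algebraMap S (Localization.AtPrime p) s = y := hxs
    have hy : y ∈ maximalIdeal (Localization.AtPrime p) := by rw [← hxs']; exact Ideal.mul_mem_right _ _ hx₁
    have hy2 : y ∉ maximalIdeal (Localization.AtPrime p) ^ 2 := fun h => hx₁'
      ((Ideal.mul_unit_mem_iff_mem _ (IsLocalization.map_units _ s)).mp (by rw [hxs']; exact h))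
    have hxp : x ∈ p := (IsLocalization.AtPrime.to_map_mem_maximal_iff _ p x).mp hy
    obtain ⟨hregQ, -, hrank⟩ := GrothLib.RegLoc.quotient_isRegularLocalRing hy hy2
    let I := Ideal.span {x}
    have hIp : I ≤ p := (Ideal.span_singleton_le_iff_mem _).mpr hxp
    let p' := p.map (Ideal.Quotient.mk I)
    haveI : p'.IsPrime :=
      Ideal.map_isPrime_of_surjective Ideal.Quotient.mk_surjective (by rwa [Ideal.mk_ker])
    have hIy : I.map (algebraMap S (Localization.AtPrime p)) = Ideal.span {y} := by
      rw [Ideal.map_span, Set.image_singleton]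
    obtain ⟨e₀⟩ := exists_quotient_equiv I p hIp
    let e := (Ideal.quotEquivOfEq hIy).symm.trans e₀
    haveI : IsRegularLocalRing (Localization.AtPrime p') := IsRegularLocalRing.of_ringEquiv e
    have hd' : (maximalIdeal (Localization.AtPrime p')).spanFinrank = d := by
      haveI := hregQ
      rw [← map_ringEquiv_maximalIdeal e, Ideal.spanFinrank_map_eq_of_ringEquiv,
        ← GrothLib.RegLoc.map_maximalIdeal_quotient]
      omega
    have hJ' : IsJ0 ((S ⧸ I) ⧸ p') := by
      obtain ⟨f, hf, hreg⟩ := hJ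
      let ε : S ⧸ p ≃+* (S ⧸ I) ⧸ p' := (DoubleQuot.quotQuotEquivQuotOfLE hIp).symm
      refine ⟨ε f, fun h => hf (ε.injective (h.trans (map_zero ε).symm)), ?_⟩
      haveI := hreg
      exact IsRegularRing.of_ringEquiv (IsLocalization.ringEquivOfRingEquiv
        (M := Submonoid.powers f) (T := Submonoid.powers (ε f)) (Localization.Away f) (Localization.Away (ε f)) ε
        (Submonoid.map_powers ε.toMonoidHom f))
    obtain ⟨g', hg', hnhd⟩ := ih (S ⧸ I) p' hd' hJ'
    obtain ⟨g', rfl⟩ := Ideal.Quotient.mk_surjective g'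
    -- `x` is a nonzerodivisor near `p`
    let K : Submodule S S := LinearMap.ker (LinearMap.lsmul S S x)
    obtain ⟨n, a, ha⟩ := Submodule.fg_iff_exists_fin_generating_family.mp (IsNoetherian.noetherian K)
    have hy0 : y ≠ 0 := fun h => hy2 (h ▸ Submodule.zero_mem _)
    haveI := GrothLib.CMFree.isDomain_of_isRegularLocalRing (Localization.AtPrime p)
    have h0 : ∀ i, ∃ s ∉ p, s * a i = 0 := fun i => by
      have hi : x * a i = 0 := (ha ▸ Submodule.subset_span ⟨i, rfl⟩ : a i ∈ K)
      have h1 : algebraMap S (Localization.AtPrime p) (a i) = 0 := by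
        have h2 : y * algebraMap S (Localization.AtPrime p) (a i) = 0 := by rw [← map_mul, hi, map_zero]
        exact (mul_eq_zero.mp h2).resolve_left hy0
      obtain ⟨⟨t, ht⟩, h2⟩ := (IsLocalization.map_eq_zero_iff p.primeCompl _ _).mp h1
      exact ⟨t, ht, h2⟩
    choose t ht hta using h0
    refine ⟨g' * ∏ i, t i, fun h => ?_, fun q hpq hg => ?_⟩
    · rcases Ideal.IsPrime.mem_or_mem inferInstance h with h | h
      · exact hg' (Ideal.mem_map_of_mem _ h)
      · obtain ⟨i, -, hi⟩ := (Ideal.IsPrime.prod_mem_iff (p := p)).mp h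
        exact ht i hi
    · have hgq : g' ∉ q.asIdeal := fun h => hg (q.asIdeal.mul_mem_right _ h)
      have htq : ∀ i, t i ∉ q.asIdeal := fun i h => hg (q.asIdeal.mul_mem_left _
        ((Ideal.IsPrime.prod_mem_iff (p := q.asIdeal)).mpr ⟨i, Finset.mem_univ _, h⟩))
      have hIq : I ≤ q.asIdeal := hIp.trans hpq
      let q' := q.asIdeal.map (Ideal.Quotient.mk I)
      haveI : q'.IsPrime :=
        Ideal.map_isPrime_of_surjective Ideal.Quotient.mk_surjective (by rwa [Ideal.mk_ker])
      have hreg' : IsRegularLocalRing (Localization.AtPrime q') :=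
        hnhd ⟨q', inferInstance⟩ (Ideal.map_mono hpq) fun h => hgq (by
          rw [Ideal.mem_map_iff_of_surjective _ Ideal.Quotient.mk_surjective] at h
          obtain ⟨w, hw, hwe⟩ := h
          simpa using q.asIdeal.sub_mem hw (hIq (Ideal.Quotient.eq.mp hwe)))
      obtain ⟨eq⟩ := exists_quotient_equiv I q.asIdeal hIq
      have hIq' : I.map (algebraMap S (Localization.AtPrime q.asIdeal)) =
          Ideal.span {algebraMap S (Localization.AtPrime q.asIdeal) x} := by
        rw [Ideal.map_span, Set.image_singleton]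
      haveI : IsRegularLocalRing (Localization.AtPrime q.asIdeal ⧸
          Ideal.span {algebraMap S (Localization.AtPrime q.asIdeal) x}) :=
        IsRegularLocalRing.of_ringEquiv (eq.symm.trans (Ideal.quotEquivOfEq hIq'))
      refine GrothLib.RegLoc.isRegularLocalRing_of_quotient
        ((IsLocalization.AtPrime.to_map_mem_maximal_iff _ q.asIdeal x).mpr (hpq hxp)) ?_
      rw [mem_nonZeroDivisors_iff_right]
      intro z hz
      obtain ⟨c, u, rfl⟩ := IsLocalization.exists_mk'_eq q.asIdeal.primeCompl z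
      rw [← IsLocalization.mk'_one (M := q.asIdeal.primeCompl) (S := Localization.AtPrime q.asIdeal) x,
        ← IsLocalization.mk'_mul, IsLocalization.mk'_eq_zero_iff] at hz
      obtain ⟨⟨v, hv⟩, hv'⟩ := hz
      have hvc : v * c ∈ K := by
        show x * (v * c) = 0
        rw [← hv']; ring
      rw [← ha] at hvc
      have hkill : ∀ z ∈ Submodule.span S (Set.range a), (∏ i, t i) * z = 0 := fun z hz => by
        induction hz using Submodule.span_induction with
        | mem z hz =>
          obtain ⟨i, rfl⟩ := hz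
          obtain ⟨r, hr⟩ := Finset.dvd_prod_of_mem t (Finset.mem_univ i)
          rw [hr, mul_comm (t i) r, mul_assoc, hta, mul_zero]
        | zero => rw [mul_zero]
        | add z w _ _ hz hw => rw [mul_add, hz, hw, add_zero]
        | smul r z _ hz => rw [smul_eq_mul, mul_left_comm, hz, mul_zero]
      refine (IsLocalization.mk'_eq_zero_iff _ _).mpr ⟨⟨(∏ i, t i) * v, fun h => ?_⟩, ?_⟩
      · rcases Ideal.IsPrime.mem_or_mem inferInstance h with h | h
        · obtain ⟨i, -, hi⟩ := (Ideal.IsPrime.prod_mem_iff (p := q.asIdeal)).mp h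
          exact htq i hi
        · exact hv h
      · show (∏ i, t i) * v * c = 0
        rw [mul_assoc]; exact hkill _ hvc

/-- A set stable under generalisation containing a dense open of the closure of each of its points
is open. -/
theorem isOpen_of_stable {R : Type u} [CommRing R] [IsNoetherianRing R] (Z : Set (PrimeSpectrum R))
    (hgen : ∀ p q : PrimeSpectrum R, p.asIdeal ≤ q.asIdeal → q ∈ Z → p ∈ Z)
    (hdense : ∀ p ∈ Z, ∃ g ∉ p.asIdeal, ∀ q : PrimeSpectrum R, p.asIdeal ≤ q.asIdeal → g ∉ q.asIdeal → q ∈ Z) :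
    IsOpen Z := by
  rw [← isClosed_compl_iff]
  let I := PrimeSpectrum.vanishingIdeal Zᶜ
  suffices PrimeSpectrum.zeroLocus (I : Set R) ⊆ Zᶜ by
    rw [← Set.Subset.antisymm this (PrimeSpectrum.subset_zeroLocus_vanishingIdeal Zᶜ)]
    exact PrimeSpectrum.isClosed_zeroLocus _
  intro x hx hxZ
  obtain ⟨P, hP, hPx⟩ := Ideal.exists_minimalPrimes_le (J := x.asIdeal) (show I ≤ x.asIdeal from hx)
  have hPp : P.IsPrime := hP.1.1
  obtain ⟨g, hg, hgZ⟩ := hdense ⟨P, hPp⟩ (hgen ⟨P, hPp⟩ x hPx hxZ)
  have hfin := Ideal.finite_minimalPrimes_of_isNoetherianRing R I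
  classical
  let others := hfin.toFinset.erase P
  obtain ⟨h, hho, hhP⟩ : ∃ h ∈ others.inf id, h ∉ P := by
    refine Set.not_subset.1 fun hle => ?_
    obtain ⟨Q, hQ, hQP⟩ := (Ideal.IsPrime.inf_le' hPp).1 hle
    have hQ' := Finset.mem_erase.1 hQ
    exact hQ'.1 (le_antisymm hQP (hP.2 ⟨(hfin.mem_toFinset.1 hQ'.2).1.1, (hfin.mem_toFinset.1 hQ'.2).1.2⟩ hQP))
  have hgh : g * h ∈ I := by
    rw [PrimeSpectrum.mem_vanishingIdeal]
    intro q hq
    by_contra hgq
    have hIq : I ≤ q.asIdeal := fun r hr => (PrimeSpectrum.mem_vanishingIdeal _ _).mp hr q hq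
    obtain ⟨Q, hQ, hQq⟩ := Ideal.exists_minimalPrimes_le hIq
    by_cases hQP : Q = P
    · subst hQP
      exact hq (hgZ q hQq fun hgq' => hgq (q.asIdeal.mul_mem_right _ hgq'))
    · exact hgq (q.asIdeal.mul_mem_left _ (hQq ((Finset.inf_le (f := id)
        (Finset.mem_erase.2 ⟨hQP, hfin.mem_toFinset.2 hQ⟩) : others.inf id ≤ Q) hho)))
  exact (hPp.mem_or_mem (hP.1.2 hgh)).elim hg hhP

/-- **Nagata's criterion.** -/
theorem isOpen_regLocus {S : Type u} [CommRing S] [IsNoetherianRing S]
    (h : ∀ (p : Ideal S) [p.IsPrime], IsJ0 (S ⧸ p)) : IsOpen (EGA4.regLocus S) :=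
  isOpen_of_stable _ (fun _ _ => regLocus_stable) fun p hp => by
    haveI : IsRegularLocalRing (Localization.AtPrime p.asIdeal) := hp
    exact exists_regular_nhd _ S p.asIdeal rfl (h p.asIdeal)

end GrothLib.J2
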