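import Groth.Agent.Lib.J2.Criterion
import Mathlib.RingTheory.Derivation.MapCoeffs
import Mathlib.RingTheory.RegularLocalRing.Polynomial
import Mathlib.RingTheory.AdjoinRoot

/-!
# Generic regularity along a radicial extension detected by a derivation
-/

set_option autoImplicit false
set_option linter.style.haveILetI false
universe u

open IsLocalRing Polynomial

namespace GrothLib.J2

/-- An element of a prime with derivative outside the prime is not in the square of the maximal ideal. -/
theorem notMem_sq_maximalIdeal {R : Type u} [CommRing R] (Δ : Derivation ℤ R R) (Q : Ideal R) [Q.IsPrime]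
    {g : R} (hΔ : Δ g ∉ Q) :
    algebraMap R (Localization.AtPrime Q) g ∉ maximalIdeal (Localization.AtPrime Q) ^ 2 := by
  rw [← Localization.AtPrime.map_eq_maximalIdeal, ← Ideal.map_pow, IsLocalization.algebraMap_mem_map_algebraMap_iff Q.primeCompl]
  rintro ⟨t, ht, h⟩
  have hsq : ∀ z ∈ Q ^ 2, Δ z ∈ Q := fun z hz => by
    rw [pow_two] at hz
    refine Submodule.mul_induction_on hz (fun x hx y hy => ?_) (fun x y hx hy => ?_)
    · rw [Derivation.leibniz]
      exact Q.add_mem (Q.mul_mem_right _ hx) (Q.mul_mem_right _ hy)
    · rw [map_add]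
      exact Q.add_mem hx hy
  have hg : g ∈ Q := by
    have := Ideal.pow_le_self two_ne_zero h
    exact (Ideal.IsPrime.mem_or_mem inferInstance this).resolve_left ht
  have h1 : t * Δ g + g * Δ t ∈ Q := by simpa [smul_eq_mul] using hsq _ h
  have h2 : t * Δ g ∈ Q := by simpa using Q.sub_mem h1 (Q.mul_mem_right (Δ t) hg)
  exact ((Ideal.IsPrime.mem_or_mem inferInstance h2).resolve_left ht |> hΔ)

/-- Adjoining a `p`-th root of an element with non-zero derivative preserves generic regularity. -/
theorem isJ0_adjoinRoot {S : Type u} [CommRing S] [IsDomain S] [IsNoetherianRing S] (p : ℕ) (hp : 1 < p)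
    (D : Derivation ℤ S S) (a : S) (ha : D a ≠ 0) (hJ : IsJ0 S)
    [IsDomain (S[X] ⧸ Ideal.span {(X : S[X]) ^ p - C a})] :
    IsJ0 (S[X] ⧸ Ideal.span {(X : S[X]) ^ p - C a}) := by
  obtain ⟨f, hf, hreg⟩ := hJ
  haveI := hreg
  letI : Differential S := ⟨D⟩
  set g : S[X] := X ^ p - C a
  set I := Ideal.span {g}
  have hgm : g.Monic := monic_X_pow_sub_C a (by omega)
  have hdeg : g.natDegree = p := natDegree_X_pow_sub_C
  refine ⟨Ideal.Quotient.mk I (C (f * D a)), fun h0 => ?_, isRegularRing_away _ fun P hP => ?_⟩
  · rw [Ideal.Quotient.eq_zero_iff_mem, Ideal.mem_span_singleton] at h0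
    have := natDegree_le_of_dvd h0 (C_ne_zero.2 (mul_ne_zero hf ha))
    rw [hdeg, natDegree_C] at this
    omega
  · rw [mem_regLocus_iff]
    let Q := P.asIdeal.comap (Ideal.Quotient.mk I)
    have hIQ : I ≤ Q := fun z hz => by
      rw [Ideal.mem_comap, Ideal.Quotient.eq_zero_iff_mem.2 hz]
      exact P.asIdeal.zero_mem
    have hfa : C (f * D a) ∉ Q := hP
    have hQm : Q.map (Ideal.Quotient.mk I) = P.asIdeal :=
      Ideal.map_comap_of_surjective _ Ideal.Quotient.mk_surjective _
    haveI : (Q.map (Ideal.Quotient.mk I)).IsPrime := hQm ▸ P.isPrime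
    haveI : IsRegularRing (Localization.Away (C f : S[X])) := by
      letI : Algebra S[X] (Localization.Away f)[X] := (mapRingHom (algebraMap S (Localization.Away f))).toAlgebra
      haveI := Polynomial.isLocalization (Submonoid.powers f) (Localization.Away f)
      haveI : IsLocalization.Away (C f : S[X]) (Localization.Away f)[X] := by
        have : (Submonoid.powers f).map (C : S →+* S[X]).toMonoidHom = Submonoid.powers (C f : S[X]) := by
          rw [Submonoid.map_powers]; rfl
        show IsLocalization (Submonoid.powers (C f : S[X])) _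
        rw [← this]; assumption
      exact IsRegularRing.of_ringEquiv (R := (Localization.Away f)[X])
        (IsLocalization.algEquiv (Submonoid.powers (C f : S[X])) _ _).toRingEquiv
    have hfQ : (C f : S[X]) ∉ Q := fun h => hfa (by rw [map_mul]; exact Q.mul_mem_right _ h)
    haveI := isRegularLocalRing_of_away (C f : S[X]) Q hfQ
    have hgQ : algebraMap S[X] (Localization.AtPrime Q) g ∈ maximalIdeal (Localization.AtPrime Q) := by
      rw [← Localization.AtPrime.map_eq_maximalIdeal]
      exact Ideal.mem_map_of_mem _ (hIQ (Ideal.mem_span_singleton_self g))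
    have hg2 : algebraMap S[X] (Localization.AtPrime Q) g ∉ maximalIdeal (Localization.AtPrime Q) ^ 2 := by
      let Δ : Derivation ℤ S[X] S[X] := Derivation.mk'
        ((Differential.mapCoeffs (A := S)).toLinearMap.toAddMonoidHom.toIntLinearMap)
        fun x y => (Differential.mapCoeffs (A := S)).leibniz x y
      refine notMem_sq_maximalIdeal Δ Q ?_
      intro h
      replace h : (Differential.mapCoeffs (A := S)) g ∈ Q := h
      refine hfa ?_
      have h1 : (Differential.mapCoeffs (A := S)) g = - C (D a) := by
        rw [map_sub, Derivation.leibniz_pow, Differential.mapCoeffs_X, smul_zero, smul_zero,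
          Differential.mapCoeffs_C, zero_sub]
        rfl
      simp only [h1, neg_mem_iff] at h
      rw [map_mul]
      exact Q.mul_mem_left _ h
    obtain ⟨hq, -, -⟩ := GrothLib.RegLoc.quotient_isRegularLocalRing hgQ hg2
    obtain ⟨e⟩ := exists_quotient_equiv I Q hIQ
    have hreg' : IsRegularLocalRing (Localization.AtPrime Q ⧸ I.map (algebraMap S[X] (Localization.AtPrime Q))) := by
      rw [Ideal.map_span, Set.image_singleton]; assumption
    exact isRegularLocalRing_congr hQm (IsRegularLocalRing.of_ringEquiv e)

end GrothLib.J2
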