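import Groth.Agent.Lib.J2.FiniteType
import Groth.Agent.Lib.J2.Step
import Mathlib.FieldTheory.PurelyInseparable.Basic
import Mathlib.RingTheory.Smooth.Basic

/-!
# Generic regularity of finite domains by radicial towers
-/

set_option autoImplicit false
set_option linter.style.haveILetI false
universe u

open IsLocalRing Polynomial

namespace GrothLib.J2

theorem isJ0_of_isRegularRing (A : Type u) [CommRing A] [Nontrivial A] [IsRegularRing A] : IsJ0 A :=
  ⟨1, one_ne_zero, GrothLib.GeomReg.isRegularRing_of_isLocalization (Submonoid.powers (1 : A)) _⟩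

theorem isJ0_congr {A B : Type u} [CommRing A] [CommRing B] (e : A ≃+* B) (h : IsJ0 A) : IsJ0 B := by
  obtain ⟨f, hf, hreg⟩ := h
  haveI := hreg
  refine ⟨e f, fun h0 => hf (e.injective (h0.trans (map_zero e).symm)), ?_⟩
  exact IsRegularRing.of_ringEquiv (R := Localization.Away f)
    (IsLocalization.ringEquivOfRingEquiv (M := Submonoid.powers f) (T := Submonoid.powers (e f))
      (Localization.Away f) (Localization.Away (e f)) e (by rw [Submonoid.map_powers]; rfl))

/-- A finite domain separable over a generically regular domain is generically regular. -/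
theorem isJ0_of_isSeparable {A D K L : Type u} [CommRing A] [IsDomain A] [IsNoetherianRing A] [CommRing D]
    [IsDomain D] [Algebra A D] [Module.Finite A D] (hinj : Function.Injective (algebraMap A D))
    [Field K] [Algebra A K] [IsFractionRing A K] [Field L] [Algebra D L] [IsFractionRing D L]
    [Algebra K L] [Algebra A L] [IsScalarTower A D L] [IsScalarTower A K L] [Algebra.IsSeparable K L]
    (hA : IsJ0 A) : IsJ0 D := by
  haveI : Algebra.FormallySmooth A K := Algebra.FormallySmooth.of_isLocalization (nonZeroDivisors A)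
  haveI : Algebra.FormallyEtale K L := Algebra.FormallyEtale.of_isSeparable K L
  haveI : Algebra.FormallySmooth A L := Algebra.FormallySmooth.comp A K L
  exact isJ0_of_formallySmooth (M := L) hinj hA

theorem isJ0_of_charZero {A D : Type u} [CommRing A] [IsDomain A] [IsNoetherianRing A] [CommRing D]
    [IsDomain D] [Algebra A D] [Module.Finite A D] [FaithfulSMul A D] [CharZero A] (hA : IsJ0 A) : IsJ0 D := by
  letI := FractionRing.liftAlgebra A (FractionRing D)
  haveI : CharZero (FractionRing A) :=
    charZero_of_injective_ringHom (IsFractionRing.injective A (FractionRing A))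
  haveI : FiniteDimensional (FractionRing A) (FractionRing D) := inferInstance
  exact isJ0_of_isSeparable (K := FractionRing A) (L := FractionRing D)
    (FaithfulSMul.algebraMap_injective A D) hA

section Tower

variable {R K L : Type u} [CommRing R] [IsDomain R] [IsNoetherianRing R] [Field K] [Algebra R K]
  [IsFractionRing R K] [Field L] [Algebra K L] [Algebra R L] [IsScalarTower R K L]

theorem algebraMap_mem_closure (S : Subalgebra R L) (x : K) :
    algebraMap K L x ∈ Subfield.closure (S : Set L) := by
  obtain ⟨a, b, -, rfl⟩ := IsFractionRing.div_surjective R (K := K) x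
  rw [map_div₀, ← IsScalarTower.algebraMap_apply, ← IsScalarTower.algebraMap_apply]
  exact div_mem (Subfield.subset_closure (S.algebraMap_mem a)) (Subfield.subset_closure (S.algebraMap_mem b))

/-- The field of fractions inside `L` of a subalgebra. -/
def fracField (S : Subalgebra R L) : IntermediateField K L :=
  (Subfield.closure (S : Set L)).toIntermediateField (algebraMap_mem_closure S)

theorem subset_fracField (S : Subalgebra R L) {x : L} (hx : x ∈ S) : x ∈ fracField (K := K) S :=
  Subfield.subset_closure hx

theorem exists_div_of_mem_fracField (S : Subalgebra R L) {x : L} (hx : x ∈ fracField (K := K) S) :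
    ∃ a ∈ S, ∃ b ∈ S, a / b = x := by
  obtain ⟨a, ha, b, hb, rfl⟩ := Subfield.mem_closure_iff.1 (show x ∈ Subfield.closure (S : Set L) from hx)
  have h : Subring.closure (S : Set L) ≤ S.toSubring := Subring.closure_le.2 subset_rfl
  exact ⟨a, h ha, b, h hb, rfl⟩

/-- The inclusion of a subalgebra in its field of fractions. -/
def toFracField (S : Subalgebra R L) : S →+* fracField (K := K) S where
  toFun x := ⟨x, subset_fracField S x.2⟩
  map_one' := rfl
  map_mul' _ _ := rfl
  map_zero' := rfl
  map_add' _ _ := rfl

theorem isFractionRing_fracField (S : Subalgebra R L) :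
    @IsFractionRing S _ (fracField (K := K) S) _ (toFracField S).toAlgebra := by
  letI := (toFracField (K := K) S).toAlgebra
  haveI : FaithfulSMul S (fracField (K := K) S) :=
    (faithfulSMul_iff_algebraMap_injective _ _).2 fun x y h => Subtype.ext (congrArg Subtype.val h :)
  refine IsFractionRing.of_field S _ fun z => ?_
  obtain ⟨a, ha, b, hb, h⟩ := exists_div_of_mem_fracField S z.2
  exact ⟨⟨a, ha⟩, ⟨b, hb⟩, Subtype.ext h.symm⟩

variable [FiniteDimensional K L]

theorem exists_base (hR : IsJ0 R) : ∃ S : Subalgebra R L, Module.Finite R S ∧ IsJ0 S ∧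
    separableClosure K L ≤ fracField (K := K) S := by
  classical
  set Es := separableClosure K L
  let v := Module.finBasis K Es
  obtain ⟨y, hy, hint⟩ := exists_integral_multiples R K (L := L) (Finset.univ.image fun i => (v i : L))
  let T : Finset L := Finset.univ.image fun i => y • (v i : L)
  let S : Subalgebra R L := Algebra.adjoin R (T : Set L)
  haveI hfinS : Module.Finite R S := Algebra.finite_adjoin_of_finite_of_isIntegral T.finite_toSet fun x hx => by
    obtain ⟨i, -, rfl⟩ := Finset.mem_image.1 hx
    exact hint _ (Finset.mem_image_of_mem _ (Finset.mem_univ i))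
  have hSEs : ∀ x ∈ S, x ∈ Es := fun x hx => by
    refine (Algebra.adjoin_le ?_ : S ≤ Es.toSubalgebra.restrictScalars R) hx
    intro z hz
    obtain ⟨i, -, rfl⟩ := Finset.mem_image.1 hz
    show y • (v i : L) ∈ Es
    rw [Algebra.smul_def, IsScalarTower.algebraMap_apply R K L]
    exact mul_mem (Es.algebraMap_mem _) (v i).2
  have hy' : algebraMap R L y ≠ 0 := by
    rw [IsScalarTower.algebraMap_apply R K L]
    exact fun e => hy (IsFractionRing.injective R K (((algebraMap K L).injective
      (e.trans (map_zero _).symm)).trans (map_zero _).symm))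
  have hle : Es ≤ fracField (K := K) S := by
    intro x hx
    have hxs : ((∑ i, v.repr ⟨x, hx⟩ i • v i : Es) : L) = x := congrArg Subtype.val (v.sum_repr ⟨x, hx⟩)
    rw [← hxs, AddSubmonoidClass.coe_finsetSum]
    refine sum_mem fun i _ => ?_
    show ((v.repr ⟨x, hx⟩ i) • (v i : L)) ∈ _
    rw [Algebra.smul_def]
    refine mul_mem ((fracField (K := K) S).algebraMap_mem _) ?_
    have h1 : y • (v i : L) ∈ S := Algebra.subset_adjoin (Finset.mem_image_of_mem _ (Finset.mem_univ i))
    have h2 : (v i : L) = (y • (v i : L)) / algebraMap R L y := by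
      rw [Algebra.smul_def, mul_div_cancel_left₀ _ hy']
    rw [h2]
    exact div_mem (subset_fracField S h1) (subset_fracField S (S.algebraMap_mem y))
  have heq : fracField (K := K) S = Es := le_antisymm (fun x hx => by
    obtain ⟨a, ha, b, hb, rfl⟩ := exists_div_of_mem_fracField S hx
    exact div_mem (hSEs a ha) (hSEs b hb)) hle
  haveI : Algebra.IsSeparable K (fracField (K := K) S) := by
    rw [heq]; exact separableClosure.isSeparable K L
  letI := (toFracField (K := K) S).toAlgebra
  haveI := isFractionRing_fracField (K := K) S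
  haveI : IsScalarTower R S (fracField (K := K) S) :=
    IsScalarTower.of_algebraMap_eq fun r => Subtype.ext rfl
  refine ⟨S, hfinS, isJ0_of_isSeparable (K := K) (L := fracField (K := K) S) ?_ hR, hle⟩
  intro a b h
  exact IsFractionRing.injective R K ((algebraMap K L).injective (by
    rw [← IsScalarTower.algebraMap_apply, ← IsScalarTower.algebraMap_apply]
    exact (congrArg Subtype.val h :)))

theorem exists_step (p : ℕ) [hp : Fact p.Prime] [CharP L p] (S : Subalgebra R L) [Module.Finite R S] (hS : IsJ0 S)
    (hder : ∀ a : S, (∀ b ∈ fracField (K := K) S, b ^ p ≠ (a : L)) → ∃ D : Derivation ℤ S S, D a ≠ 0)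
    {x : L} (hx : x ∉ fracField (K := K) S) (hxp : x ^ p ∈ fracField (K := K) S) :
    ∃ S' : Subalgebra R L, Module.Finite R S' ∧ IsJ0 S' ∧
      fracField (K := K) S < fracField (K := K) S' := by
  classical
  haveI : ExpChar L p := ExpChar.prime hp.out
  set E := fracField (K := K) S
  obtain ⟨c, hc, d, hd, hcd⟩ := exists_div_of_mem_fracField S hxp
  have hd0 : d ≠ 0 := by
    rintro rfl
    rw [div_zero, eq_comm, pow_eq_zero_iff hp.out.ne_zero] at hcd
    exact hx (hcd ▸ zero_mem _)
  let y := x * d
  have hyE : y ∉ E := fun h => hx (by simpa [y, hd0] using div_mem h (subset_fracField (K := K) S hd))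
  obtain ⟨q, hq⟩ : ∃ q, p = q + 1 := ⟨p - 1, (Nat.sub_add_cancel hp.out.one_le).symm⟩
  let a : S := ⟨c * d ^ q, mul_mem hc (pow_mem hd q)⟩
  have hya : y ^ p = (a : L) := by
    show (x * d) ^ p = c * d ^ q
    rw [mul_pow, ← hcd, hq, pow_succ']
    field_simp
  let g : S[X] := X ^ p - C a
  have hgm : g.Monic := monic_X_pow_sub_C a hp.out.ne_zero
  set I := Ideal.span {g}
  let φ : S[X] →ₐ[S] L := aeval y
  have hφg : φ g = 0 := by
    simp only [φ, g, map_sub, map_pow, aeval_X, aeval_C, hya]
    exact sub_self _
  let ψ : (S[X] ⧸ I) →ₐ[S] L := Ideal.Quotient.liftₐ I φ fun z hz => by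
    obtain ⟨w, rfl⟩ := Ideal.mem_span_singleton.1 hz
    rw [map_mul, hφg, zero_mul]
  have hno : ∀ b ∈ E, b ^ p ≠ (a : L) := by
    intro b hb h
    exact hyE (frobenius_inj L p (show frobenius L p b = frobenius L p y from h.trans hya.symm) ▸ hb)
  have hψ : Function.Injective ψ := by
    rw [injective_iff_map_eq_zero]
    intro z hz
    obtain ⟨h, rfl⟩ := Ideal.Quotient.mk_surjective z
    rw [Ideal.Quotient.eq_zero_iff_mem, Ideal.mem_span_singleton, ← modByMonic_eq_zero_iff_dvd hgm]
    set r := h %ₘ g
    have hr0 : φ r = 0 := by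
      have : φ h = 0 := hz
      rwa [← modByMonic_add_div h g, map_add, map_mul, hφg, zero_mul, add_zero] at this
    letI : Algebra S E := (toFracField (K := K) S).toAlgebra
    haveI : IsScalarTower S E L := IsScalarTower.of_algebraMap_eq fun _ => rfl
    let aE : E := algebraMap S E a
    have hirr : Irreducible ((X : E[X]) ^ p - C aE) :=
      X_pow_sub_C_irreducible_of_prime hp.out fun b hb => hno b b.2 (congrArg Subtype.val hb :)
    have hmin : (X : E[X]) ^ p - C aE = minpoly E y :=
      minpoly.eq_of_irreducible_of_monic hirr (by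
        rw [map_sub, map_pow, aeval_X, aeval_C, hya]; exact sub_self _) (monic_X_pow_sub_C _ hp.out.ne_zero)
    by_contra hr
    have hinjE : Function.Injective (algebraMap S E) := fun u w huw => Subtype.ext (congrArg Subtype.val huw :)
    have hr' : r.map (algebraMap S E) ≠ 0 := (Polynomial.map_ne_zero_iff hinjE).2 hr
    have hdvd : minpoly E y ∣ r.map (algebraMap S E) := minpoly.dvd _ _ (by rw [aeval_map_algebraMap]; exact hr0)
    have h1 := natDegree_le_of_dvd hdvd hr'
    rw [← hmin, natDegree_X_pow_sub_C] at h1
    have h2 : r.natDegree < p := by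
      have hg1 : g ≠ 1 := fun e => hp.out.ne_zero (by
        simpa [g, natDegree_X_pow_sub_C] using congrArg natDegree e)
      have := natDegree_modByMonic_lt h hgm hg1
      rwa [natDegree_X_pow_sub_C] at this
    have := natDegree_map_le (f := algebraMap S E) (p := r)
    omega
  haveI : IsDomain (S[X] ⧸ I) := Function.Injective.isDomain ψ hψ
  haveI : IsNoetherianRing S := IsNoetherianRing.of_finite R S
  obtain ⟨D, hD⟩ := hder a hno
  have hJ := isJ0_adjoinRoot p hp.out.one_lt D a hD hS
  haveI : Module.Finite S (S[X] ⧸ I) := hgm.finite_quotient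
  haveI : Module.Finite R (S[X] ⧸ I) := Module.Finite.trans S _
  let θ : (S[X] ⧸ I) →ₐ[R] L := ψ.restrictScalars R
  let S' : Subalgebra R L := θ.range
  haveI hfin : Module.Finite R S' :=
    Module.Finite.of_surjective θ.rangeRestrict.toLinearMap θ.rangeRestrict_surjective
  haveI : IsNoetherianRing S' := IsNoetherianRing.of_finite R S'
  let e := AlgEquiv.ofInjective θ hψ
  have hle : E ≤ fracField (K := K) S' := by
    intro z hz
    obtain ⟨u, hu, w, hw, rfl⟩ := exists_div_of_mem_fracField S hz
    exact div_mem (subset_fracField S' ⟨Ideal.Quotient.mk I (C ⟨u, hu⟩), by simp [θ, ψ, φ]⟩)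
      (subset_fracField S' ⟨Ideal.Quotient.mk I (C ⟨w, hw⟩), by simp [θ, ψ, φ]⟩)
  refine ⟨S', hfin, isJ0_congr e.toRingEquiv hJ, hle.lt_of_ne fun he => hyE ?_⟩
  rw [he]
  exact subset_fracField S' ⟨Ideal.Quotient.mk I X, by simp [θ, ψ, φ]⟩

end Tower

end GrothLib.J2
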