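import Groth.Agent.Lib.J2.Subfields
import Groth.Agent.Lib.Cohen.NagataMain
import Mathlib.RingTheory.MvPowerSeries.Expand

/-!
# Derivations detecting non-`p`-th powers on finite extensions of power series rings
-/

set_option autoImplicit false
set_option linter.style.haveILetI false
universe u

open EGA41

namespace GrothLib.J2

variable (p : ℕ) [hp : Fact p.Prime] {k : Type u} [Field k] [CharP k p] (d : ℕ)

local notation "𝖱" => MvPowerSeries (Fin d) k

/-- The embedding `f(T) ↦ f(T ^ p)` of power series over a subfield. -/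
noncomputable def powEmb (F : Subfield k) : MvPowerSeries (Fin d) F →+* MvPowerSeries (Fin d) k :=
  (MvPowerSeries.expand p hp.out.ne_zero : MvPowerSeries (Fin d) k →ₐ[k] _).toRingHom.comp
    (MvPowerSeries.map F.subtype)

omit [CharP k p] in
theorem coeff_powEmb_smul (F : Subfield k) (g : MvPowerSeries (Fin d) F) (n : Fin d →₀ ℕ) :
    MvPowerSeries.coeff (p • n) (powEmb p d F g) = ((MvPowerSeries.coeff n g : F) : k) :=
  (MvPowerSeries.coeff_expand_smul p hp.out.ne_zero _ n).trans (MvPowerSeries.coeff_map _ _ _)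

omit [CharP k p] in
theorem coeff_powEmb_of_not_dvd (F : Subfield k) (g : MvPowerSeries (Fin d) F) {m : Fin d →₀ ℕ} {i : Fin d}
    (h : ¬ p ∣ m i) : MvPowerSeries.coeff m (powEmb p d F g) = 0 :=
  MvPowerSeries.coeff_expand_of_not_dvd p hp.out.ne_zero _ h

omit [CharP k p] in
theorem powEmb_injective (F : Subfield k) : Function.Injective (powEmb p d F) := by
  intro f g h
  ext n
  rw [← coeff_powEmb_smul p d F f n, h, coeff_powEmb_smul]

omit [CharP k p] hp in
theorem eq_smul_div {m : Fin d →₀ ℕ} (h : ∀ i, p ∣ m i) : m = p • m.mapRange (· / p) (Nat.zero_div p) := by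
  ext i
  simp [Nat.mul_div_cancel' (h i)]

omit [CharP k p] in
theorem mem_range_powEmb (F : Subfield k) (h : 𝖱) : h ∈ Set.range (powEmb p d F) ↔
    (∀ n, MvPowerSeries.coeff (p • n) h ∈ F) ∧ ∀ m i, ¬ p ∣ m i → MvPowerSeries.coeff m h = 0 := by
  constructor
  · rintro ⟨g, rfl⟩
    exact ⟨fun n => by rw [coeff_powEmb_smul]; exact Subtype.prop _,
      fun m i hi => coeff_powEmb_of_not_dvd p d F g hi⟩
  · rintro ⟨h1, h2⟩
    let g : MvPowerSeries (Fin d) F := fun n => ⟨MvPowerSeries.coeff (p • n) h, h1 n⟩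
    refine ⟨g, MvPowerSeries.ext fun m => ?_⟩
    by_cases hm : ∀ i, p ∣ m i
    · rw [eq_smul_div p d hm, coeff_powEmb_smul]
      rfl
    · push Not at hm
      obtain ⟨i, hi⟩ := hm
      rw [coeff_powEmb_of_not_dvd p d F g hi, h2 m i hi]

theorem pow_mem_range_powEmb (F : Subfield k) (hF : ∀ x, x ^ p ∈ F) (r : 𝖱) :
    r ^ p ∈ Set.range (powEmb p d F) := by
  haveI : ExpChar k p := ExpChar.prime hp.out
  rw [← MvPowerSeries.map_frobenius_expand p hp.out.ne_zero, mem_range_powEmb]
  refine ⟨fun n => ?_, fun m i hi => ?_⟩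
  · rw [MvPowerSeries.coeff_map, MvPowerSeries.coeff_expand_smul, frobenius_def]
    exact hF _
  · rw [MvPowerSeries.coeff_map, MvPowerSeries.coeff_expand_of_not_dvd p hp.out.ne_zero _ hi, map_zero]

omit [CharP k p] in
/-- Power series are finite over those in `T ^ p` with coefficients in a subfield of finite index. -/
theorem finite_powEmb (F : Subfield k) [FiniteDimensional F k] : (powEmb p d F).Finite := by
  classical
  letI : Algebra (MvPowerSeries (Fin d) F) 𝖱 := (powEmb p d F).toAlgebra
  rw [show powEmb p d F = algebraMap (MvPowerSeries (Fin d) F) 𝖱 from rfl, RingHom.finite_algebraMap]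
  let c := Module.finBasis F k
  let ex : (Fin d → Fin p) → (Fin d →₀ ℕ) := fun e => Finsupp.equivFunOnFinite.symm fun i => (e i : ℕ)
  let G : (Fin d → Fin p) × Fin (Module.finrank F k) → 𝖱 := fun z => MvPowerSeries.monomial (ex z.1) (c z.2)
  refine ⟨⟨Finset.univ.image G, eq_top_iff.2 fun f _ => ?_⟩⟩
  let g : (Fin d → Fin p) → Fin (Module.finrank F k) → MvPowerSeries (Fin d) F :=
    fun e j n => c.repr (MvPowerSeries.coeff (p • n + ex e) f) j
  have hf : f = ∑ e, ∑ j, g e j • G (e, j) := by
    refine MvPowerSeries.ext fun m => ?_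
    simp only [map_sum]
    have hterm : ∀ e j, MvPowerSeries.coeff m (g e j • G (e, j)) =
        if ex e ≤ m then MvPowerSeries.coeff (m - ex e) (powEmb p d F (g e j)) * c j else 0 := fun e j => by
      rw [Algebra.smul_def]
      exact MvPowerSeries.coeff_mul_monomial m (ex e) _ _
    let em : Fin d → Fin p := fun i => ⟨m i % p, Nat.mod_lt _ hp.out.pos⟩
    have hem : ex em ≤ m := fun i => by simpa [ex, em] using Nat.mod_le (m i) p
    have hdvd : ∀ i, p ∣ (m - ex em) i := fun i => by
      simpa [ex, em] using Nat.dvd_sub_mod (m i)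
    rw [Finset.sum_eq_single em]
    · simp only [hterm, if_pos hem]
      rw [eq_smul_div p d hdvd]
      simp only [coeff_powEmb_smul]
      have hn : p • (m - ex em).mapRange (· / p) (Nat.zero_div p) + ex em = m := by
        rw [← eq_smul_div p d hdvd, tsub_add_cancel_of_le hem]
      calc MvPowerSeries.coeff m f = ∑ j, c.repr (MvPowerSeries.coeff m f) j • c j := (c.sum_repr _).symm
        _ = _ := Finset.sum_congr rfl fun j _ => by
          rw [Subfield.smul_def, smul_eq_mul]
          congr 2
          show _ = c.repr (MvPowerSeries.coeff (p • (m - ex em).mapRange (· / p) (Nat.zero_div p) + ex em) f) j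
          rw [hn]
    · intro e _ he
      refine Finset.sum_eq_zero fun j _ => ?_
      rw [hterm]
      split_ifs with hle
      · obtain ⟨i, hi⟩ : ∃ i, ¬ p ∣ (m - ex e) i := by
          by_contra hcon
          push Not at hcon
          refine he (funext fun i => Fin.ext ?_)
          obtain ⟨q, hq⟩ := hcon i
          have h1 : (e i : ℕ) ≤ m i := by simpa [ex] using hle i
          have h2 : m i - (e i : ℕ) = p * q := by simpa [ex] using hq
          show (e i : ℕ) = m i % p
          rw [show m i = (e i : ℕ) + p * q by omega, Nat.add_mul_mod_self_left, Nat.mod_eq_of_lt (e i).2]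
        rw [coeff_powEmb_of_not_dvd p d F _ hi, zero_mul]
      · rfl
    · exact fun h => absurd (Finset.mem_univ _) h
  rw [hf]
  exact Submodule.sum_mem _ fun e _ => Submodule.sum_mem _ fun j _ => Submodule.smul_mem _ _
    (Submodule.subset_span (Finset.mem_image_of_mem G (Finset.mem_univ _)))

/-- Power series of a finite-index subring that become fractions of it lie in it. -/
theorem mem_range_of_mul_eq (F : Subfield k) [FiniteDimensional F k] {h : 𝖱}
    {a b : MvPowerSeries (Fin d) F} (hb : b ≠ 0) (he : h * powEmb p d F b = powEmb p d F a) :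
    h ∈ Set.range (powEmb p d F) := by
  let A := MvPowerSeries (Fin d) F
  letI : Algebra A 𝖱 := (powEmb p d F).toAlgebra
  haveI : Module.Finite A 𝖱 := RingHom.finite_algebraMap.1 (finite_powEmb p d F)
  haveI : IsIntegrallyClosed A := (GrothLib.N2.isN2_mvPowerSeries F (GrothLib.Cohen.isN2_of_field _) d).1
  let Φ := (algebraMap 𝖱 (FractionRing 𝖱)).comp (algebraMap A 𝖱)
  have hΦ : Function.Injective Φ := (IsFractionRing.injective 𝖱 (FractionRing 𝖱)).comp (powEmb_injective p d F)
  let ψ : FractionRing A →+* FractionRing 𝖱 := IsFractionRing.lift hΦ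
  have hψ : ∀ x, ψ (algebraMap A (FractionRing A) x) = algebraMap 𝖱 (FractionRing 𝖱) (powEmb p d F x) :=
    fun x => IsFractionRing.lift_algebraMap hΦ x
  have hb' : algebraMap 𝖱 (FractionRing 𝖱) (powEmb p d F b) ≠ 0 := fun e =>
    hb (hΦ (e.trans (map_zero Φ).symm))
  set q := algebraMap A (FractionRing A) a / algebraMap A (FractionRing A) b
  have hq : ψ q = algebraMap 𝖱 (FractionRing 𝖱) h := by
    rw [map_div₀, hψ, hψ, div_eq_iff hb', ← map_mul, he]
  obtain ⟨P, hP, hPh⟩ := Algebra.IsIntegral.isIntegral (R := A) h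
  have hint : IsIntegral A q := ⟨P, hP, ψ.injective (by
    rw [Polynomial.hom_eval₂, map_zero, hq,
      show ψ.comp (algebraMap A (FractionRing A)) = Φ from RingHom.ext fun x => hψ x,
      ← Polynomial.hom_eval₂, hPh, map_zero])⟩
  obtain ⟨a', ha'⟩ := (IsIntegrallyClosed.isIntegral_iff (R := A) (K := FractionRing A)).1 hint
  exact ⟨a', IsFractionRing.injective 𝖱 (FractionRing 𝖱) (by rw [← hψ, ha', hq])⟩

omit [CharP k p] in
theorem mem_closure_range {A L : Type u} [CommRing A] [Field L] (f : A →+* L) {x : L} :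
    x ∈ Subfield.closure (Set.range f) ↔ ∃ a b, f a / f b = x := by
  rw [Subfield.mem_closure_iff]
  have h : Subring.closure (Set.range f) = f.range := by
    rw [show Set.range f = (f.range : Set L) from (RingHom.coe_range f).symm, Subring.closure_eq]
  rw [h]
  constructor
  · rintro ⟨_, ⟨a, rfl⟩, _, ⟨b, rfl⟩, e⟩; exact ⟨a, b, e⟩
  · rintro ⟨a, b, e⟩; exact ⟨_, ⟨a, rfl⟩, _, ⟨b, rfl⟩, e⟩

set_option maxHeartbeats 1000000 in
/-- **A derivation of a finite domain over `k⟦T⟧` not killing a given non-`p`-th power.** -/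
theorem exists_derivation {S E : Type u} [CommRing S] [Field E] [Algebra 𝖱 S] [Module.Finite 𝖱 S]
    [Algebra 𝖱 E] [Algebra S E] [IsScalarTower 𝖱 S E] [IsFractionRing S E]
    (hinj : Function.Injective (algebraMap 𝖱 E)) (a : S) (ha : ∀ b : E, b ^ p ≠ algebraMap S E a) :
    ∃ D : Derivation ℤ S S, D a ≠ 0 := by
  classical
  set j := algebraMap 𝖱 E with hj
  haveI : IsDomain S := Function.Injective.isDomain (algebraMap S E) (IsFractionRing.injective S E)
  haveI : CharP E p := charP_of_injective_ringHom
    (f := j.comp (MvPowerSeries.C (σ := Fin d) (R := k))) (RingHom.injective _) p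
  haveI : ExpChar E p := ExpChar.prime hp.out
  obtain ⟨ι, F, hanti, hFp, hFfin, hFinter⟩ := exists_subfield_family p k
  let K : Subfield E := Subfield.closure (Set.range j)
  let Ks : Finset ι → Subfield E := fun s => Subfield.closure (Set.range (j.comp (powEmb p d (F s))))
  let K0 : Subfield E := K.map (frobenius E p)
  let P : Subfield E := (frobenius E p).fieldRange
  -- decreasing
  have hKanti : ∀ s t, s ⊆ t → Ks t ≤ Ks s := by
    intro s t hst
    refine Subfield.closure_mono ?_
    rintro _ ⟨g, rfl⟩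
    obtain ⟨g', hg'⟩ : powEmb p d (F t) g ∈ Set.range (powEmb p d (F s)) := by
      have := (mem_range_powEmb p d (F t) _).1 ⟨g, rfl⟩
      exact (mem_range_powEmb p d (F s) _).2 ⟨fun n => hanti s t hst (this.1 n), this.2⟩
    exact ⟨g', congrArg j hg'⟩
  have h0 : ∀ s, K0 ≤ Ks s := fun s => by
    rw [show K0 = Subfield.closure (frobenius E p '' Set.range j) from RingHom.map_field_closure _ _,
      Subfield.closure_le]
    rintro _ ⟨_, ⟨r, rfl⟩, rfl⟩
    obtain ⟨g, hg⟩ := pow_mem_range_powEmb p d (F s) (hFp s) r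
    exact Subfield.subset_closure ⟨g, by rw [RingHom.comp_apply, hg, frobenius_def, map_pow]⟩
  have hinter : ∀ x, (∀ s, x ∈ Ks s) → x ∈ K0 := by
    intro x hx
    obtain ⟨u, v, huv⟩ := (mem_closure_range (j.comp (powEmb p d (F ∅)))).1 (hx ∅)
    set f := powEmb p d (F ∅) u
    set g := powEmb p d (F ∅) v
    replace huv : j f / j g = x := huv
    rcases eq_or_ne g 0 with hg | hg
    · rw [← huv, hg, map_zero, div_zero]; exact zero_mem _
    obtain ⟨q, hq⟩ : ∃ q, p = q + 1 := ⟨p - 1, (Nat.sub_add_cancel hp.out.one_le).symm⟩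
    have hjg : j g ≠ 0 := fun e => hg (hinj (e.trans (map_zero j).symm))
    have hh : ∀ s, f * g ^ q ∈ Set.range (powEmb p d (F s)) := by
      intro s
      obtain ⟨gp, hgp⟩ := pow_mem_range_powEmb p d (F s) (hFp s) g
      have hm : j (f * g ^ q) ∈ Ks s := by
        have : j (f * g ^ q) = x * j (powEmb p d (F s) gp) := by
          rw [hgp, ← huv, map_mul, map_pow, map_pow, hq, pow_succ']
          field_simp
        rw [this]
        exact mul_mem (hx s) (Subfield.subset_closure ⟨gp, rfl⟩)
      obtain ⟨a', b', hab⟩ := (mem_closure_range (j.comp (powEmb p d (F s)))).1 hm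
      haveI := hFfin s
      rcases eq_or_ne b' 0 with hb | hb
      · refine ⟨0, hinj ?_⟩
        rw [← hab, hb]
        simp
      · refine mem_range_of_mul_eq p d (F s) (a := a') hb (hinj ?_)
        have hb' : j (powEmb p d (F s) b') ≠ 0 := fun e =>
          hb (powEmb_injective p d (F s) ((hinj (e.trans (map_zero j).symm)).trans (map_zero _).symm))
        rw [map_mul, ← hab]
        exact div_mul_cancel₀ _ hb'
    have hroot : ∀ n, ∃ y, y ^ p = MvPowerSeries.coeff (p • n) (f * g ^ q) := fun n =>
      hFinter _ fun s => ((mem_range_powEmb p d (F s) _).1 (hh s)).1 n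
    choose r hr using hroot
    haveI : ExpChar k p := ExpChar.prime hp.out
    let r' : 𝖱 := r
    have hr' : ∀ n, MvPowerSeries.coeff n r' = r n := fun _ => rfl
    have hrp : r' ^ p = f * g ^ q := by
      refine MvPowerSeries.ext fun m => ?_
      rw [← MvPowerSeries.map_frobenius_expand p hp.out.ne_zero, MvPowerSeries.coeff_map]
      by_cases hm : ∀ i, p ∣ m i
      · rw [eq_smul_div p d hm, MvPowerSeries.coeff_expand_smul, frobenius_def, hr', hr]
      · push Not at hm
        obtain ⟨i, hi⟩ := hm
        rw [MvPowerSeries.coeff_expand_of_not_dvd p hp.out.ne_zero _ hi, map_zero,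
          ((mem_range_powEmb p d (F ∅) _).1 (hh ∅)).2 m i hi]
    refine ⟨j r' / j g, (show j r' / j g ∈ K from div_mem (Subfield.subset_closure ⟨r', rfl⟩) (Subfield.subset_closure ⟨g, rfl⟩)), ?_⟩
    rw [frobenius_def, div_pow, ← map_pow, hrp, map_mul, map_pow, ← huv, hq, pow_succ']
    field_simp
  -- generators of `E ^ p` over `K ^ p`
  haveI : FiniteDimensional K E := by
    obtain ⟨T, hT⟩ := Module.Finite.fg_top (R := 𝖱) (M := S)
    let U : Set E := (T.image (algebraMap S E) : Set E)
    haveI : Finite U := (T.image (algebraMap S E)).finite_toSet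
    letI : Algebra 𝖱 K := (j.codRestrict K fun r => Subfield.subset_closure ⟨r, rfl⟩).toAlgebra
    haveI : IsScalarTower 𝖱 K E := IsScalarTower.of_algebraMap_eq fun _ => rfl
    haveI hfin : FiniteDimensional K (IntermediateField.adjoin K U) :=
      IntermediateField.finiteDimensional_adjoin fun x hx => by
        obtain ⟨y, -, rfl⟩ := Finset.mem_image.1 hx
        exact ((Algebra.IsIntegral.isIntegral (R := 𝖱) y).map (IsScalarTower.toAlgHom 𝖱 S E)).tower_top
    have hS : ∀ y : S, algebraMap S E y ∈ IntermediateField.adjoin K U := fun y => by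
      have hy : y ∈ Submodule.span 𝖱 (T : Set S) := hT.symm ▸ trivial
      induction hy using Submodule.span_induction with
      | mem z hz => exact IntermediateField.subset_adjoin K U (Finset.mem_image_of_mem _ hz)
      | zero => rw [map_zero]; exact zero_mem _
      | add z w _ _ hz hw => rw [map_add]; exact add_mem hz hw
      | smul c z _ hz =>
        rw [Algebra.smul_def, map_mul, ← IsScalarTower.algebraMap_apply 𝖱 S E,
          IsScalarTower.algebraMap_apply 𝖱 K E]
        exact mul_mem (IntermediateField.algebraMap_mem _ _) hz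
    have htop : IntermediateField.adjoin K U = ⊤ := eq_top_iff.2 fun z _ => by
      obtain ⟨x, y, -, rfl⟩ := IsFractionRing.div_surjective S (K := E) z
      exact div_mem (hS x) (hS y)
    haveI : FiniteDimensional K (⊤ : IntermediateField K E) := htop ▸ hfin
    exact (IntermediateField.topEquiv (F := K) (E := E)).toLinearEquiv.finiteDimensional
  let bE := Module.finBasis K E
  let u : Fin (Module.finrank K E) → E := fun i => bE i ^ p
  have hspanP : ∀ y ∈ P, ∃ c : Fin (Module.finrank K E) → E, (∀ i, c i ∈ K0) ∧ ∑ i, c i * u i = y := by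
    rintro _ ⟨z, rfl⟩
    refine ⟨fun i => frobenius E p (bE.repr z i : E), fun i => ⟨_, (bE.repr z i).2, rfl⟩, ?_⟩
    conv_rhs => rw [← bE.sum_repr z, map_sum]
    refine Finset.sum_congr rfl fun i _ => ?_
    rw [Subfield.smul_def, smul_eq_mul, map_mul]
    rfl
  obtain ⟨s, hs⟩ := exists_notMem_span Ks hKanti K0 P h0 hinter
    (by rintro _ ⟨z, -, rfl⟩; exact ⟨z, rfl⟩) u (fun i => ⟨bE i, rfl⟩) (a := algebraMap S E a)
    (by rintro ⟨b, hb⟩; exact ha b hb)
  -- the span is a subalgebra containing the `p`-th powers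
  let F' := Ks s
  set W := Submodule.span F' (Set.range u)
  have hPW : ∀ y ∈ P, y ∈ W := fun y hy => by
    obtain ⟨c, hc, rfl⟩ := hspanP y hy
    exact sum_mem fun i _ => W.smul_mem (⟨c i, h0 s (hc i)⟩ : F') (Submodule.subset_span ⟨i, rfl⟩)
  have hmulW : ∀ x ∈ W, ∀ y ∈ W, x * y ∈ W := by
    intro x hx y hy
    have h2 := Submodule.mul_mem_mul hx hy
    rw [Submodule.span_mul_span] at h2
    refine Submodule.span_le.2 ?_ h2
    rintro _ ⟨_, ⟨i, rfl⟩, _, ⟨i', rfl⟩, rfl⟩
    exact hPW _ (mul_mem (⟨bE i, rfl⟩ : u i ∈ P) ⟨bE i', rfl⟩)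
  have h1W : (1 : E) ∈ W := hPW 1 (one_mem P)
  have hpp : ∀ y ∈ pPowerSubalgebra p F' E, y ∈ W := by
    intro y hy
    induction hy using Algebra.adjoin_induction with
    | mem z hz => obtain ⟨w, rfl⟩ := hz; exact hPW _ ⟨w, rfl⟩
    | algebraMap r =>
      rw [← mul_one (algebraMap F' E r)]
      exact W.smul_mem r h1W
    | add _ _ _ _ h1 h2 => exact add_mem h1 h2
    | mul _ _ _ _ h1 h2 => exact hmulW _ h1 _ h2
  have hnot : algebraMap S E a ∉ PBasis.genField p F' (∅ : Set E) := by
    intro hmem
    rw [show (∅ : Set E) = Set.range (PEmpty.elim : PEmpty.{u+1} → E) from (Set.range_eq_empty _).symm,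
      PBasis.mem_genField_iff] at hmem
    refine hs ?_
    show algebraMap S E a ∈ W
    generalize algebraMap S E a = z0 at hmem ⊢
    induction hmem using Submodule.span_induction with
    | mem z hz =>
      obtain ⟨e, rfl⟩ := hz
      dsimp only
      rw [show e.1 = 0 from Finsupp.ext fun i => i.elim, PBasis.pMonomial_zero]
      exact h1W
    | zero => exact zero_mem _
    | add _ _ _ _ h1 h2 => exact add_mem h1 h2
    | smul c z _ hz => exact hmulW _ (hpp _ c.2) _ hz
  have hind : IsPIndependent p F' (fun _ : PUnit.{u+1} => algebraMap S E a) := by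
    rw [PBasis.isPIndependent_iff]
    intro x
    rwa [show (fun _ : PUnit.{u+1} => algebraMap S E a) '' {b | b ≠ x} = ∅ by
      rw [Set.image_eq_empty]; ext b; simp]
  obtain ⟨B, hB1, hB⟩ := PBasis.exists_pBasis_superset hind
  obtain ⟨b, hb⟩ := PBasis.exists_basis_kaehler (CharP.cast_eq_zero E p) _ hB
  let i0 : B := ⟨algebraMap S E a, hB1 ⟨PUnit.unit, rfl⟩⟩
  let δ : Derivation F' E E := (b.coord i0).compDer (KaehlerDifferential.D F' E)
  have hδ : δ (algebraMap S E a) = 1 := by
    show b.coord i0 (KaehlerDifferential.D F' E (Subtype.val i0)) = 1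
    rw [← hb i0, Module.Basis.coord_apply, b.repr_self, Finsupp.single_eq_same]
  -- clear denominators
  let A := MvPowerSeries (Fin d) (F s)
  letI : Algebra A 𝖱 := (powEmb p d (F s)).toAlgebra
  haveI := hFfin s
  haveI : Module.Finite A 𝖱 := RingHom.finite_algebraMap.1 (finite_powEmb p d (F s))
  letI : Algebra A S := ((algebraMap 𝖱 S).comp (algebraMap A 𝖱)).toAlgebra
  haveI : IsScalarTower A 𝖱 S := IsScalarTower.of_algebraMap_eq fun _ => rfl
  haveI : Module.Finite A S := Module.Finite.trans 𝖱 S
  obtain ⟨G, hG⟩ := Module.Finite.fg_top (R := A) (M := S)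
  have hδA : ∀ x : A, δ (algebraMap S E (algebraMap A S x)) = 0 := fun x => by
    have he : algebraMap S E (algebraMap A S x) = j (powEmb p d (F s) x) :=
      (IsScalarTower.algebraMap_apply 𝖱 S E _).symm
    rw [he]
    exact δ.map_algebraMap (⟨_, Subfield.subset_closure ⟨x, rfl⟩⟩ : F')
  obtain ⟨⟨c, hc⟩, hcG⟩ := IsLocalization.exist_integer_multiples (nonZeroDivisors S) G
    (fun y => δ (algebraMap S E y))
  have hall : ∀ y : S, ∃ z : S, algebraMap S E z = algebraMap S E c * δ (algebraMap S E y) := by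
    intro y
    have hy : y ∈ Submodule.span A (G : Set S) := hG.symm ▸ trivial
    induction hy using Submodule.span_induction with
    | mem z hz =>
      obtain ⟨w, hw⟩ := hcG z hz
      exact ⟨w, hw.trans (Algebra.smul_def _ _)⟩
    | zero => exact ⟨0, by simp⟩
    | add z w _ _ hz hw =>
      obtain ⟨z', hz'⟩ := hz
      obtain ⟨w', hw'⟩ := hw
      exact ⟨z' + w', by rw [map_add, map_add, map_add, hz', hw', mul_add]⟩
    | smul x z _ hz =>
      obtain ⟨z', hz'⟩ := hz
      refine ⟨algebraMap A S x * z', ?_⟩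
      rw [Algebra.smul_def, map_mul, map_mul, Derivation.leibniz, hδA, smul_zero, add_zero, smul_eq_mul, hz']
      ring
  choose Df hDf using hall
  have hinjS := IsFractionRing.injective S E
  let D0 : S →+ S := AddMonoidHom.mk' Df fun y z => hinjS (by
    rw [map_add, hDf, hDf, hDf, map_add, map_add, mul_add])
  refine ⟨Derivation.mk' D0.toIntLinearMap fun y z => hinjS ?_, fun h => ?_⟩
  · show algebraMap S E (Df (y * z)) = algebraMap S E (y • Df z + z • Df y)
    rw [smul_eq_mul, smul_eq_mul, map_add, map_mul, map_mul, hDf, hDf, hDf, map_mul, Derivation.leibniz,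
      smul_eq_mul, smul_eq_mul]
    ring
  · have h1 : algebraMap S E (Df a) = 0 := (congrArg (algebraMap S E) h).trans (map_zero _)
    rw [hDf, hδ, mul_one] at h1
    exact nonZeroDivisors.ne_zero hc (hinjS (h1.trans (map_zero _).symm))

end GrothLib.J2
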