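import Groth.Agent.Lib.Cohen.Nagata

/-!
# Complete local domains as finite extensions of power series rings
-/

set_option autoImplicit false
set_option linter.style.haveILetI false
universe u

open IsLocalRing

namespace GrothLib.J2

/-- A complete local domain is finite over the power series in a system of parameters. -/
theorem exists_finite_injective_of_parameters' {Λ D : Type u} [CommRing Λ] [IsDomain Λ] [IsLocalRing Λ] [IsNoetherianRing Λ]
    [IsAdicComplete (maximalIdeal Λ) Λ]
    [CommRing D] [IsDomain D] [IsLocalRing D] [IsNoetherianRing D] [IsAdicComplete (maximalIdeal D) D]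
    (g : Λ →+* D) (hres : Function.Surjective ((residue D).comp g))
    (T : Finset Λ) (hT : maximalIdeal Λ = Ideal.span (T : Set Λ))
    {d : ℕ} (b : Fin d → D) (hb : ∀ i, b i ∈ maximalIdeal D)
    (hrad : maximalIdeal D ≤ ((maximalIdeal Λ).map g ⊔ Ideal.span (Set.range b)).radical)
    (hdim : ((d + T.card : ℕ) : WithBot ℕ∞) ≤ ringKrullDim D) :
    ∃ φ : MvPowerSeries (Fin d) Λ →+* D, φ.Finite ∧ Function.Injective φ ∧
      φ.comp MvPowerSeries.C = g := by
  classical
  letI : Algebra Λ D := g.toAlgebra
  let A := MvPowerSeries (Fin d) Λ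
  obtain ⟨ψ, hψ⟩ := GrothLib.RegLoc.PS.exists_algHom (A := Λ) (maximalIdeal D) b hb
  letI : Algebra A D := ψ.toRingHom.toAlgebra
  haveI : IsScalarTower Λ A D := IsScalarTower.of_algebraMap_eq fun c => (ψ.commutes c).symm
  set J := Ideal.span (Set.range b)
  have hJtop : J ≠ ⊤ := fun h => (maximalIdeal.isMaximal D).ne_top (top_le_iff.1 (h ▸ Ideal.span_le.2 (by
    rintro _ ⟨i, rfl⟩; exact hb i)))
  haveI : Nontrivial (D ⧸ J) := Ideal.Quotient.nontrivial_iff.2 hJtop
  haveI : IsLocalRing (D ⧸ J) := IsLocalRing.of_surjective' (Ideal.Quotient.mk J) Ideal.Quotient.mk_surjective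
  -- `D / J` is finite over `Λ`
  have hloc : (maximalIdeal Λ).map g ≤ maximalIdeal D := by
    refine ((local_hom_TFAE g).out 0 2 rfl rfl).1 ⟨fun a ha => ?_⟩
    by_contra hna
    haveI : IsHausdorff (maximalIdeal Λ) Λ := inferInstance
    have h1 : RingHom.ker ((residue D).comp g) = maximalIdeal Λ :=
      IsLocalRing.eq_maximalIdeal (RingHom.ker_isMaximal_of_surjective _ hres)
    have h2 : a ∈ RingHom.ker ((residue D).comp g) := h1 ▸ (IsLocalRing.mem_maximalIdeal a).2 hna
    exact (IsLocalRing.mem_maximalIdeal _).1 ((residue_eq_zero_iff _).1 h2) ha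
  haveI hfJ : Module.Finite Λ (D ⧸ J) := by
    set W : Submodule Λ (D ⧸ J) := maximalIdeal Λ • ⊤
    have hI : (maximalIdeal Λ).map (algebraMap Λ (D ⧸ J)) ≤ maximalIdeal (D ⧸ J) := by
      rw [show algebraMap Λ (D ⧸ J) = (Ideal.Quotient.mk J).comp g from rfl, ← Ideal.map_map]
      refine (Ideal.map_mono hloc).trans ?_
      exact (IsLocalRing.eq_maximalIdeal (Ideal.IsMaximal.map_of_surjective_of_ker_le
        (f := Ideal.Quotient.mk J) Ideal.Quotient.mk_surjective
        (by rw [Ideal.mk_ker]; exact le_maximalIdeal hJtop))).le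
    haveI : IsHausdorff (maximalIdeal Λ) (D ⧸ J) := by
      refine ⟨fun x hx => ?_⟩
      refine IsHausdorff.haus (I := maximalIdeal (D ⧸ J)) inferInstance x fun n => ?_
      have h := hx n
      rw [SModEq.sub_mem, sub_zero] at h ⊢
      rw [smul_eq_mul, Ideal.mul_top]
      rw [Ideal.smul_top_eq_map, Submodule.restrictScalars_mem, Ideal.map_pow] at h
      exact Ideal.pow_right_mono hI n h
    refine GrothLib.AdicExtra.finite_of_quotient_finite (I := maximalIdeal Λ) ?_
    haveI := GrothLib.Cohen.finite_quotient_of_residue_surjective (Λ := Λ) hres ((maximalIdeal Λ).map g ⊔ J) hrad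
    let π : (D ⧸ (maximalIdeal Λ).map g ⊔ J) →ₗ[Λ] (D ⧸ J) ⧸ W :=
      Submodule.liftQ (((maximalIdeal Λ).map g ⊔ J).restrictScalars Λ)
        (W.mkQ.comp (Ideal.Quotient.mkₐ Λ J).toLinearMap) (by
          intro x hx
          rw [Submodule.restrictScalars_mem] at hx
          rw [LinearMap.mem_ker, LinearMap.comp_apply, Submodule.mkQ_apply, Submodule.Quotient.mk_eq_zero]
          rw [show W = ((maximalIdeal Λ).map (algebraMap Λ (D ⧸ J))).restrictScalars Λ from Ideal.smul_top_eq_map _,
            Submodule.restrictScalars_mem, show algebraMap Λ (D ⧸ J) = (Ideal.Quotient.mk J).comp g from rfl,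
            ← Ideal.map_map]
          have := Ideal.mem_map_of_mem (Ideal.Quotient.mk J) hx
          rwa [Ideal.map_sup, Ideal.map_quotient_self, sup_bot_eq] at this)
    refine Module.Finite.of_surjective π fun y => ?_
    obtain ⟨y, rfl⟩ := Submodule.mkQ_surjective W y
    obtain ⟨y, rfl⟩ := Ideal.Quotient.mk_surjective y
    exact ⟨Ideal.Quotient.mk _ y, rfl⟩
  -- `D` is finite over the power series ring
  set V := Ideal.span (Set.range (MvPowerSeries.X : Fin d → A))
  have hV : V.map (algebraMap A D) = J := by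
    rw [Ideal.map_span, ← Set.range_comp]
    exact congrArg (fun t => Ideal.span (Set.range t)) (funext hψ)
  haveI hAD : Module.Finite A D := by
    haveI : IsHausdorff V D := by
      refine ⟨fun x hx => ?_⟩
      refine IsHausdorff.haus (I := maximalIdeal D) inferInstance x fun n => ?_
      have h := hx n
      rw [SModEq.sub_mem, sub_zero] at h ⊢
      rw [smul_eq_mul, Ideal.mul_top]
      rw [Ideal.smul_top_eq_map, Submodule.restrictScalars_mem, Ideal.map_pow, hV] at h
      exact Ideal.pow_right_mono (Ideal.span_le.2 (by rintro _ ⟨i, rfl⟩; exact hb i)) n h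
    refine GrothLib.AdicExtra.finite_of_quotient_finite (I := V) ?_
    haveI : IsScalarTower Λ A (D ⧸ J) := IsScalarTower.of_algebraMap_eq fun c =>
      congrArg (Ideal.Quotient.mk J) (ψ.commutes c).symm
    haveI : Module.Finite A (D ⧸ J) := Module.Finite.of_restrictScalars_finite Λ A _
    have heq : (V • ⊤ : Submodule A D) = J.restrictScalars A := by rw [Ideal.smul_top_eq_map, hV]
    exact Module.Finite.equiv ((Submodule.Quotient.restrictScalarsEquiv A J).symm.trans
      (Submodule.quotEquivOfEq _ _ heq.symm))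
  -- dimension count: `ψ` is injective
  have hdimA : ringKrullDim A ≤ ((d + T.card : ℕ) : WithBot ℕ∞) := by
    let G : Finset A := Finset.univ.image MvPowerSeries.X ∪ T.image (algebraMap Λ A)
    have hC : algebraMap Λ A = MvPowerSeries.C := RingHom.ext fun c => by
      simp [MvPowerSeries.algebraMap_apply, A]
    have hm : maximalIdeal A = Ideal.span (G : Set A) := by
      refine le_antisymm ?_ (Ideal.span_le.2 ?_)
      · intro f hf
        have h0 : MvPowerSeries.constantCoeff f ∈ maximalIdeal Λ := by
          rw [IsLocalRing.mem_maximalIdeal, mem_nonunits_iff] at hf ⊢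
          rwa [MvPowerSeries.isUnit_iff_constantCoeff] at hf
        rw [Finset.coe_union, Finset.coe_image, Finset.coe_image, Ideal.span_union, ← Ideal.map_span, ← hT,
          Finset.coe_univ, Set.image_univ]
        rw [← sub_add_cancel f (MvPowerSeries.C (MvPowerSeries.constantCoeff f))]
        refine add_mem (Ideal.mem_sup_left ?_) (Ideal.mem_sup_right ?_)
        · have : f - MvPowerSeries.C (MvPowerSeries.constantCoeff f) ∈
              RingHom.ker (MvPowerSeries.constantCoeff : A →+* Λ) := by simp
          rw [GrothLib.AdicFS.ker_constantCoeff, GrothLib.AdicFS.varsIdeal, MvPolynomial.idealOfVars,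
            Ideal.map_span] at this
          refine Ideal.span_mono ?_ this
          rintro _ ⟨_, ⟨i, rfl⟩, rfl⟩
          exact ⟨i, by simp [MvPowerSeries.algebraMap_apply']⟩
        · rw [hC]
          exact Ideal.mem_map_of_mem _ h0
      · intro x hx
        rw [SetLike.mem_coe, IsLocalRing.mem_maximalIdeal, mem_nonunits_iff, MvPowerSeries.isUnit_iff_constantCoeff]
        rcases Finset.mem_union.1 hx with h | h <;> obtain ⟨y, hy, rfl⟩ := Finset.mem_image.1 h
        · simp
        · have : y ∈ maximalIdeal Λ := hT ▸ Ideal.subset_span hy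
          rw [IsLocalRing.mem_maximalIdeal, mem_nonunits_iff] at this
          rw [hC, MvPowerSeries.constantCoeff_C]
          exact this
    rw [← IsLocalRing.maximalIdeal_height_eq_ringKrullDim]
    have h1 := Ideal.height_le_spanFinrank (maximalIdeal A) (maximalIdeal.isMaximal A).ne_top
    have h2 : (maximalIdeal A).spanFinrank ≤ d + T.card := by
      rw [hm]
      refine (Submodule.spanFinrank_span_le_ncard_of_finite G.finite_toSet).trans ?_
      rw [Set.ncard_coe_finset]
      refine (Finset.card_union_le _ _).trans (add_le_add ?_ Finset.card_image_le)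
      exact Finset.card_image_le.trans (by simp)
    exact_mod_cast h1.trans (by exact_mod_cast h2)
  have hinj : Function.Injective (algebraMap A D) := by
    rw [RingHom.injective_iff_ker_eq_bot]
    by_contra hne
    set q := RingHom.ker (algebraMap A D) with hq
    obtain ⟨r, hr, hr0⟩ := Submodule.exists_mem_ne_zero_of_ne_bot hne
    let ι : A ⧸ q →+* D := RingHom.kerLift (algebraMap A D)
    letI : Algebra (A ⧸ q) D := ι.toAlgebra
    haveI : Module.Finite (A ⧸ q) D := RingHom.Finite.of_comp_finite (f := Ideal.Quotient.mk q) (g := ι)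
      (show (algebraMap A D).Finite from RingHom.finite_algebraMap.2 hAD)
    have h1 : ringKrullDim D = ringKrullDim (A ⧸ q) :=
      GrothLib.Dim.ringKrullDim_eq_of_isIntegral (RingHom.kerLift_injective _)
    have h2 : ringKrullDim (A ⧸ q) ≤ ringKrullDim (A ⧸ Ideal.span {r}) :=
      ringKrullDim_le_of_surjective (Ideal.Quotient.factor ((Ideal.span_singleton_le_iff_mem _).2 hr))
        (Ideal.Quotient.factor_surjective _)
    have h3 := ringKrullDim_quotient_succ_le_of_nonZeroDivisor (mem_nonZeroDivisors_of_ne_zero hr0)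
    have h4 : ringKrullDim D + 1 ≤ ringKrullDim D :=
      (add_le_add (h1 ▸ h2) le_rfl).trans (h3.trans (hdimA.trans hdim))
    obtain ⟨n, hn⟩ := finiteRingKrullDim_iff_ne_bot_and_top.1 (inferInstance : FiniteRingKrullDim D) |> fun h =>
      (⟨_, (WithBot.coe_unbot _ h.1).symm⟩ : ∃ n : ℕ∞, ringKrullDim D = n)
    have hn' : n ≠ ⊤ := fun h => (ringKrullDim_lt_top (R := D)).ne (by rw [hn, h]; rfl)
    lift n to ℕ using hn'
    rw [hn] at h4
    have : n + 1 ≤ n := by exact_mod_cast h4
    omega
  refine ⟨ψ.toRingHom, RingHom.finite_algebraMap.2 hAD, hinj, RingHom.ext fun c => ?_⟩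
  exact (congrArg ψ (by simp [MvPowerSeries.algebraMap_apply])).trans (ψ.commutes c)

/-- The same, forgetting the compatibility with `g`. -/
theorem exists_finite_injective_of_parameters {Λ D : Type u} [CommRing Λ] [IsDomain Λ] [IsLocalRing Λ] [IsNoetherianRing Λ]
    [IsAdicComplete (maximalIdeal Λ) Λ]
    [CommRing D] [IsDomain D] [IsLocalRing D] [IsNoetherianRing D] [IsAdicComplete (maximalIdeal D) D]
    (g : Λ →+* D) (hres : Function.Surjective ((residue D).comp g))
    (T : Finset Λ) (hT : maximalIdeal Λ = Ideal.span (T : Set Λ))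
    {d : ℕ} (b : Fin d → D) (hb : ∀ i, b i ∈ maximalIdeal D)
    (hrad : maximalIdeal D ≤ ((maximalIdeal Λ).map g ⊔ Ideal.span (Set.range b)).radical)
    (hdim : ((d + T.card : ℕ) : WithBot ℕ∞) ≤ ringKrullDim D) :
    ∃ φ : MvPowerSeries (Fin d) Λ →+* D, φ.Finite ∧ Function.Injective φ :=
  (exists_finite_injective_of_parameters' g hres T hT b hb hrad hdim).imp fun _ h => ⟨h.1, h.2.1⟩

end GrothLib.J2
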