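import Groth.Agent.Lib.J2.Tower
import Groth.Agent.Lib.J2.Detect
import Groth.Agent.Lib.J2.Parameters
import Groth.Agent.Lib.Cohen.NagataMain
import Groth.Agent.Lib.AdicExtra.FiniteAlg

/-!
# Complete local Noetherian rings are J-2
-/

set_option autoImplicit false
set_option linter.style.haveILetI false
universe u

open IsLocalRing

namespace GrothLib.J2

set_option maxHeartbeats 1000000 in
theorem isJ0_powerSeries_charP (p : ℕ) [hp : Fact p.Prime] {k : Type u} [Field k] [CharP k p] (d : ℕ)
    {D : Type u} [CommRing D] [IsDomain D] [Algebra (MvPowerSeries (Fin d) k) D]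
    [Module.Finite (MvPowerSeries (Fin d) k) D] [FaithfulSMul (MvPowerSeries (Fin d) k) D] : IsJ0 D := by
  classical
  let R := MvPowerSeries (Fin d) k
  let L := FractionRing D
  let K := FractionRing R
  letI := FractionRing.liftAlgebra R L
  haveI : FiniteDimensional K L := inferInstance
  haveI : CharP R p := charP_of_injective_ringHom (f := MvPowerSeries.C (σ := Fin d) (R := k)) (RingHom.injective _) p
  haveI : CharP K p := charP_of_injective_ringHom (IsFractionRing.injective R K) p
  haveI : CharP L p := charP_of_injective_ringHom (algebraMap K L).injective p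
  haveI : ExpChar K p := ExpChar.prime hp.out
  haveI : ExpChar L p := ExpChar.prime hp.out
  haveI : IsRegularRing R := GrothLib.Serre.isRegularRing_of_isRegularLocalRing R
  have hinjL : Function.Injective (algebraMap R L) := by
    rw [IsScalarTower.algebraMap_eq R K L]
    exact (algebraMap K L).injective.comp (IsFractionRing.injective R K)
  let Good : Set (IntermediateField K L) :=
    {E | ∃ S : Subalgebra R L, Module.Finite R S ∧ IsJ0 S ∧ fracField (K := K) S = E ∧ separableClosure K L ≤ E}
  obtain ⟨S0, hfin0, hJ0, hle0⟩ := exists_base (K := K) (L := L) (isJ0_of_isRegularRing R)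
  haveI : WellFoundedGT (IntermediateField K L) :=
    StrictMono.wellFoundedGT (f := fun F : IntermediateField K L => Subalgebra.toSubmodule F.toSubalgebra)
      fun a b h => show Subalgebra.toSubmodule a.toSubalgebra < Subalgebra.toSubmodule b.toSubalgebra from h
  obtain ⟨E, ⟨S, hfinS, hJS, hSE, hEs⟩, hmax⟩ := wellFounded_gt.has_min Good ⟨_, S0, hfin0, hJ0, rfl, hle0⟩
  haveI := hfinS
  have htop : E = ⊤ := by
    by_contra hne
    obtain ⟨z, hz⟩ : ∃ z : L, z ∉ E := by
      by_contra hcon
      push Not at hcon
      exact hne (eq_top_iff.2 fun x _ => hcon x)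
    haveI : ExpChar (separableClosure K L) p := expChar_of_injective_ringHom (algebraMap K (separableClosure K L)).injective p
    haveI : IsPurelyInseparable (separableClosure K L) L := separableClosure.isPurelyInseparable K L
    have hex : ∃ n, z ^ p ^ n ∈ E := by
      obtain ⟨n, w, hw⟩ := IsPurelyInseparable.pow_mem (separableClosure K L) p z
      exact ⟨n, hEs (hw ▸ w.2)⟩
    have hn0 : Nat.find hex ≠ 0 := fun h => hz (by simpa [h] using Nat.find_spec hex)
    obtain ⟨n, hn⟩ := Nat.exists_eq_succ_of_ne_zero hn0
    have h1 : z ^ p ^ n ∉ E := Nat.find_min hex (by omega)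
    have h2 : (z ^ p ^ n) ^ p ∈ E := by
      rw [← pow_mul, ← pow_succ, ← Nat.succ_eq_add_one, ← hn]
      exact Nat.find_spec hex
    subst hSE
    obtain ⟨S', hfin', hJ', hlt⟩ := exists_step (K := K) p S hJS (fun a ha => by
      letI := (toFracField (K := K) S).toAlgebra
      haveI := isFractionRing_fracField (K := K) S
      haveI : IsScalarTower R S (fracField (K := K) S) :=
        IsScalarTower.of_algebraMap_eq fun r => Subtype.ext rfl
      refine exists_derivation p d (k := k) (E := fracField (K := K) S) ?_ a fun b hb =>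
        ha b b.2 (congrArg Subtype.val hb :)
      exact fun x y h => hinjL (congrArg Subtype.val h :)) h1 h2
    exact hmax _ ⟨S', hfin', hJ', rfl, hEs.trans hlt.le⟩ hlt
  -- compare with `D`
  subst hSE
  let T : Subalgebra R L := S ⊔ (IsScalarTower.toAlgHom R D L).range
  haveI hDfin : Module.Finite R (IsScalarTower.toAlgHom R D L).range :=
    Module.Finite.of_surjective (IsScalarTower.toAlgHom R D L).rangeRestrict.toLinearMap
      (IsScalarTower.toAlgHom R D L).rangeRestrict_surjective
  haveI : Module.Finite R T := Subalgebra.finite_sup _ _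
  haveI : IsNoetherianRing S := IsNoetherianRing.of_finite R S
  letI : Algebra S T := (Subalgebra.inclusion (le_sup_left : S ≤ T)).toRingHom.toAlgebra
  haveI : IsScalarTower R S T := IsScalarTower.of_algebraMap_eq fun _ => rfl
  haveI : IsScalarTower S T L := IsScalarTower.of_algebraMap_eq fun _ => rfl
  haveI : Module.Finite S T := Module.Finite.of_restrictScalars_finite R S T
  haveI : IsFractionRing S L := by
    haveI : FaithfulSMul S L := (faithfulSMul_iff_algebraMap_injective _ _).2 Subtype.val_injective
    refine IsFractionRing.of_field S L fun x => ?_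
    obtain ⟨a, ha, b, hb, h⟩ := exists_div_of_mem_fracField (K := K) S (x := x) (htop ▸ IntermediateField.mem_top)
    exact ⟨⟨a, ha⟩, ⟨b, hb⟩, h.symm⟩
  haveI : IsFractionRing T L := by
    haveI : FaithfulSMul T L := (faithfulSMul_iff_algebraMap_injective _ _).2 Subtype.val_injective
    refine IsFractionRing.of_field T L fun x => ?_
    obtain ⟨a, b, -, h⟩ := IsFractionRing.div_surjective S (K := L) x
    exact ⟨algebraMap S T a, algebraMap S T b, by rw [← h]; rfl⟩
  haveI : Algebra.FormallySmooth S L := Algebra.FormallySmooth.of_isLocalization (nonZeroDivisors S)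
  have hJT : IsJ0 T := isJ0_of_formallySmooth (A := S) (B := T) (M := L)
    (fun x y h => Subtype.ext (congrArg Subtype.val h :)) hJS
  letI : Algebra D T := ((algebraMap D L).codRestrict T fun x =>
    (le_sup_right : _ ≤ T) ⟨x, rfl⟩).toAlgebra
  haveI : IsScalarTower R D T := IsScalarTower.of_algebraMap_eq fun r => Subtype.ext
    (IsScalarTower.algebraMap_apply R D L r)
  haveI : Module.Finite D T := Module.Finite.of_restrictScalars_finite R D T
  haveI : IsNoetherianRing D := IsNoetherianRing.of_finite R D
  exact isJ0_of_injective (B' := T) (fun x y h => IsFractionRing.injective D L (congrArg Subtype.val h :)) hJT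

/-- Power series over a field. -/
theorem isJ0_of_finite_powerSeries_field {k : Type u} [Field k] (d : ℕ) {D : Type u} [CommRing D] [IsDomain D]
    (φ : MvPowerSeries (Fin d) k →+* D) (hfin : φ.Finite) (hinj : Function.Injective φ) : IsJ0 D := by
  letI := φ.toAlgebra
  haveI : Module.Finite (MvPowerSeries (Fin d) k) D := hfin
  haveI : FaithfulSMul (MvPowerSeries (Fin d) k) D := (faithfulSMul_iff_algebraMap_injective _ _).2 hinj
  obtain ⟨q, hq⟩ := CharP.exists k
  rcases CharP.char_is_prime_or_zero k q with hp | rfl
  · haveI := Fact.mk hp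
    exact isJ0_powerSeries_charP q (k := k) d
  · haveI : CharZero k := CharP.charP_to_charZero k
    haveI : CharZero (MvPowerSeries (Fin d) k) :=
      charZero_of_injective_ringHom (MvPowerSeries.C (σ := Fin d) (R := k)).injective
    haveI : IsRegularRing (MvPowerSeries (Fin d) k) := GrothLib.Serre.isRegularRing_of_isRegularLocalRing _
    exact isJ0_of_charZero (A := MvPowerSeries (Fin d) k) (isJ0_of_isRegularRing _)

/-- Power series over a discrete valuation ring form a regular local ring. -/
theorem isRegularLocalRing_powerSeries {Λ : Type u} [CommRing Λ] [IsDomain Λ] [IsLocalRing Λ] [IsNoetherianRing Λ]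
    (π : Λ) (hπ : π ≠ 0) (hm : maximalIdeal Λ = Ideal.span {π}) (d : ℕ) :
    IsRegularLocalRing (MvPowerSeries (Fin d) Λ) := by
  classical
  let A := MvPowerSeries (Fin d) Λ
  let G : Finset A := insert (MvPowerSeries.C π) (Finset.univ.image MvPowerSeries.X)
  have hG : Ideal.span (G : Set A) = maximalIdeal A := by
    refine le_antisymm (Ideal.span_le.2 ?_) ?_
    · intro x hx
      rw [SetLike.mem_coe, IsLocalRing.mem_maximalIdeal, mem_nonunits_iff, MvPowerSeries.isUnit_iff_constantCoeff]
      rcases Finset.mem_insert.1 hx with rfl | h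
      · have : π ∈ maximalIdeal Λ := hm ▸ Ideal.mem_span_singleton_self π
        rw [IsLocalRing.mem_maximalIdeal, mem_nonunits_iff] at this
        rwa [MvPowerSeries.constantCoeff_C]
      · obtain ⟨i, -, rfl⟩ := Finset.mem_image.1 h
        simp
    · intro f hf
      have h0 : MvPowerSeries.constantCoeff f ∈ maximalIdeal Λ := by
        rw [IsLocalRing.mem_maximalIdeal, mem_nonunits_iff] at hf ⊢
        rwa [MvPowerSeries.isUnit_iff_constantCoeff] at hf
      obtain ⟨c, hc⟩ := Ideal.mem_span_singleton.1 (hm ▸ h0)
      rw [← sub_add_cancel f (MvPowerSeries.C (MvPowerSeries.constantCoeff f))]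
      refine add_mem ?_ ?_
      · have : f - MvPowerSeries.C (MvPowerSeries.constantCoeff f) ∈
            RingHom.ker (MvPowerSeries.constantCoeff : A →+* Λ) := by simp
        rw [GrothLib.AdicFS.ker_constantCoeff, GrothLib.AdicFS.varsIdeal, MvPolynomial.idealOfVars,
          Ideal.map_span] at this
        refine Ideal.span_mono ?_ this
        rintro _ ⟨_, ⟨i, rfl⟩, rfl⟩
        simp [G, MvPowerSeries.algebraMap_apply']
      · rw [hc, map_mul]
        exact Ideal.mul_mem_right _ _ (Ideal.subset_span (by simp [G]))
  refine IsRegularLocalRing.of_spanFinrank_maximalIdeal_le _ ?_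
  have h1 : (maximalIdeal A).spanFinrank ≤ d + 1 := by
    rw [← hG]
    refine (Submodule.spanFinrank_span_le_ncard_of_finite G.finite_toSet).trans ?_
    rw [Set.ncard_coe_finset]
    refine (Finset.card_insert_le _ _).trans ?_
    have := Finset.card_image_le (s := (Finset.univ : Finset (Fin d))) (f := (MvPowerSeries.X : Fin d → A))
    simp only [Finset.card_univ, Fintype.card_fin] at this
    omega
  have h2 : (d : WithBot ℕ∞) + 1 ≤ ringKrullDim A := by
    refine le_trans (add_le_add (RegLoc.PS.natCast_le_ringKrullDim (ResidueField Λ) d) le_rfl) ?_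
    refine ringKrullDim_succ_le_of_surjective (MvPowerSeries.map (residue Λ))
      (fun f => ⟨fun n => (residue_surjective (f n)).choose, MvPowerSeries.ext fun n => (MvPowerSeries.coeff_map _ _ _).trans (residue_surjective (f n)).choose_spec⟩) (r := MvPowerSeries.C π)
      (mem_nonZeroDivisors_of_ne_zero ((map_ne_zero_iff _ (fun x y h => by
        simpa using congrArg MvPowerSeries.constantCoeff h)).2 hπ)) ?_
    rw [MvPowerSeries.map_C, (residue_eq_zero_iff _).2 (hm ▸ Ideal.mem_span_singleton_self π), map_zero]
  calc ((maximalIdeal A).spanFinrank : WithBot ℕ∞) ≤ ((d + 1 : ℕ) : WithBot ℕ∞) := Nat.cast_le.2 h1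
    _ = (d : WithBot ℕ∞) + 1 := Nat.cast_add d 1
    _ ≤ _ := h2

/-- A complete local Noetherian domain is generically regular. -/
theorem isJ0_of_isAdicComplete (D : Type u) [CommRing D] [IsDomain D] [IsLocalRing D] [IsNoetherianRing D]
    [IsAdicComplete (maximalIdeal D) D] : IsJ0 D := by
  classical
  have hsop : ∀ (E : Type u) [CommRing E] [IsLocalRing E] [IsNoetherianRing E],
      ∃ s : Finset E, (↑s ⊆ (maximalIdeal E : Set E)) ∧
        maximalIdeal E ≤ (Ideal.span (s : Set E)).radical ∧ (s.card : WithBot ℕ∞) = ringKrullDim E := by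
    intro E _ _ _
    obtain ⟨s, hmin, hcard⟩ := Ideal.exists_finset_card_eq_height_of_isNoetherianRing (maximalIdeal E)
    refine ⟨s, fun x hx => hmin.1.2 (Ideal.subset_span hx), ?_, ?_⟩
    · rw [Ideal.radical_eq_sInf]
      refine le_sInf fun P hP => ?_
      exact hmin.2 ⟨hP.2, hP.1⟩ (le_maximalIdeal hP.2.ne_top)
    · rw [← IsLocalRing.maximalIdeal_height_eq_ringKrullDim, ← hcard]
      rfl
  have equal' : ∀ (k : Type u) [Field k] (σ : k →+* D), Function.Surjective ((residue D).comp σ) →
      IsJ0 D := by
    intro k _ σ hσ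
    obtain ⟨S, hS, hrad, hcard⟩ := hsop D
    haveI : IsAdicComplete (maximalIdeal k) k := by
      rw [IsLocalRing.maximalIdeal_eq_bot]; infer_instance
    obtain ⟨φ, hfin, hinj⟩ := exists_finite_injective_of_parameters (Λ := k) σ hσ
      (∅ : Finset k) (by rw [IsLocalRing.maximalIdeal_eq_bot, Finset.coe_empty, Ideal.span_empty]) (fun i : Fin S.card => ((S.equivFin.symm i : S) : D))
      (fun i => hS (S.equivFin.symm i).2) (hrad.trans (Ideal.radical_mono (le_sup_of_le_right
        (Ideal.span_mono fun x hx => ⟨S.equivFin ⟨x, hx⟩, by simp⟩))))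
      (by simp only [Finset.card_empty, add_zero]; exact hcard.le)
    exact isJ0_of_finite_powerSeries_field _ φ hfin hinj
  have equal : ∀ (s : ResidueField D →+* D), (residue D).comp s = RingHom.id _ → IsJ0 D :=
    fun s hs => equal' (ResidueField D) s (by rw [hs]; exact Function.surjective_id)
  obtain ⟨q, hq⟩ := CharP.exists (ResidueField D)
  rcases CharP.char_is_prime_or_zero (ResidueField D) q with hp | rfl
  · by_cases hD : (q : D) = 0
    · haveI := Fact.mk hp
      haveI : CharP D q := (CharP.charP_iff_prime_eq_zero hp).2 hD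
      letI : Algebra (GrothLib.SepField.PrimeFld.{u} q) D :=
        ((ZMod.castHom (dvd_refl q) D).comp ULift.ringEquiv.toRingHom).toAlgebra
      obtain ⟨s, hs⟩ := GrothLib.CoeffField.exists_coefficientField (GrothLib.SepField.PrimeFld.{u} q) D
      exact equal s hs
    · obtain ⟨Λ, _, _, ⟨hd, hv, hc, p, hp', hm⟩, ⟨e⟩⟩ := GrothLib.Cohen.exists_cohenRing q hp (ResidueField D)
      have hqp : p = q := by
        have h1 : (p : ResidueField D) = 0 := by
          rw [← map_natCast e, ← map_natCast (residue Λ), (residue_eq_zero_iff _).2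
            (hm ▸ Ideal.subset_span rfl), map_zero]
        exact ((Nat.prime_dvd_prime_iff_eq hp hp').1 ((CharP.cast_eq_zero_iff _ q p).1 h1)).symm
      subst hqp
      have hqm : (p : D) ∈ maximalIdeal D := by rw [← residue_eq_zero_iff, map_natCast, CharP.cast_eq_zero]
      obtain ⟨g, hg⟩ := GrothLib.Cohen.exists_lift p hp' hm hqm e.toRingHom
      haveI := GrothLib.Cohen.charZero_of_maximalIdeal_eq_span Λ p hp' hm
      let J : Ideal D := Ideal.span {(p : D)}
      haveI : Nontrivial (D ⧸ J) := Ideal.Quotient.nontrivial_iff.2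
        (ne_top_of_le_ne_top (maximalIdeal.isMaximal D).ne_top ((Ideal.span_singleton_le_iff_mem _).2 hqm))
      haveI : IsLocalRing (D ⧸ J) := IsLocalRing.of_surjective' (Ideal.Quotient.mk J) Ideal.Quotient.mk_surjective
      obtain ⟨S, hS, hrad, hcard⟩ := hsop (D ⧸ J)
      let b : Fin S.card → D := fun i => (Ideal.Quotient.mk_surjective ((S.equivFin.symm i : S) : D ⧸ J)).choose
      have hb : ∀ i, Ideal.Quotient.mk J (b i) = ((S.equivFin.symm i : S) : D ⧸ J) := fun i =>
        (Ideal.Quotient.mk_surjective ((S.equivFin.symm i : S) : D ⧸ J)).choose_spec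
      haveI : IsLocalHom (Ideal.Quotient.mk J) :=
        IsLocalHom.of_surjective _ Ideal.Quotient.mk_surjective
      have hbm : ∀ i, b i ∈ maximalIdeal D := fun i => by
        rw [IsLocalRing.mem_maximalIdeal, mem_nonunits_iff]
        intro hu
        have h2 := hS (S.equivFin.symm i).2
        rw [SetLike.mem_coe, IsLocalRing.mem_maximalIdeal, mem_nonunits_iff, ← hb] at h2
        exact h2 (hu.map _)
      obtain ⟨φ, hfin, hinj⟩ := exists_finite_injective_of_parameters (Λ := Λ) g
        (by rw [hg]; exact e.surjective.comp residue_surjective)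
        {(p : Λ)} (by rw [hm, Finset.coe_singleton]) b hbm (by
          rw [hm, Ideal.map_span, Set.image_singleton, map_natCast]
          intro x hx
          obtain ⟨n, hn⟩ := hrad (show Ideal.Quotient.mk J x ∈ maximalIdeal (D ⧸ J) from
            (IsLocalRing.mem_maximalIdeal _).2 fun hu => (IsLocalRing.mem_maximalIdeal _).1 hx
              (isUnit_of_map_unit (Ideal.Quotient.mk J) x hu))
          refine ⟨n, ?_⟩
          rw [← map_pow] at hn
          have h2 : Ideal.Quotient.mk J (x ^ n) ∈ (Ideal.span (Set.range b)).map (Ideal.Quotient.mk J) := by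
            rw [Ideal.map_span]
            refine Ideal.span_mono (fun y hy => ?_) hn
            exact ⟨b (S.equivFin ⟨y, hy⟩), ⟨_, rfl⟩, by rw [hb]; simp⟩
          rw [← Ideal.mem_comap, Ideal.comap_map_of_surjective' _ Ideal.Quotient.mk_surjective, Ideal.mk_ker,
            sup_comm] at h2
          exact h2) (by
          have h3 := ringKrullDim_quotient_succ_le_of_nonZeroDivisor (mem_nonZeroDivisors_of_ne_zero hD)
          rw [← hcard] at h3
          simpa using h3)
      letI := φ.toAlgebra
      haveI : Module.Finite (MvPowerSeries (Fin S.card) Λ) D := hfin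
      haveI : FaithfulSMul (MvPowerSeries (Fin S.card) Λ) D := (faithfulSMul_iff_algebraMap_injective _ _).2 hinj
      haveI : CharZero (MvPowerSeries (Fin S.card) Λ) := charZero_of_injective_ringHom
        (f := MvPowerSeries.C (σ := Fin S.card) (R := Λ)) fun x y h => by
          simpa using congrArg MvPowerSeries.constantCoeff h
      haveI := isRegularLocalRing_powerSeries (p : Λ) (Nat.cast_ne_zero.2 hp'.ne_zero) hm S.card
      haveI : IsRegularRing (MvPowerSeries (Fin S.card) Λ) := GrothLib.Serre.isRegularRing_of_isRegularLocalRing _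
      exact isJ0_of_charZero (A := MvPowerSeries (Fin S.card) Λ) (isJ0_of_isRegularRing _)
  · haveI : CharZero (ResidueField D) := CharP.charP_to_charZero _
    obtain ⟨halg⟩ := GrothLib.CoeffField.nonempty_algebra_rat D
    obtain ⟨s, hs⟩ := GrothLib.CoeffField.exists_coefficientField (ULift.{u} ℚ) D
    exact equal s hs

/-- Finite domains over a complete local ring are generically regular. -/
theorem finiteJ0_of_isAdicComplete (A : Type u) [CommRing A] [IsLocalRing A] [IsNoetherianRing A]
    [IsAdicComplete (maximalIdeal A) A] : FiniteJ0 A := by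
  classical
  intro A' _ _ _ hfin
  haveI := hfin
  haveI : IsNoetherianRing A' := IsNoetherianRing.of_finite A A'
  obtain ⟨-, hbij, -⟩ := GrothLib.AdicExtra.finite_algebra_pi_localizations A A'
  have hdom := hbij
  haveI : IsLocalRing A' := by
    obtain ⟨m, hm⟩ := Ideal.exists_maximal A'
    refine IsLocalRing.of_unique_max_ideal ⟨m, hm, fun m' hm' => ?_⟩
    by_contra hne
    obtain ⟨x, hx⟩ := hbij.2 (Pi.single (⟨m, hm⟩ : MaximalSpectrum A') 1)
    have hid : x * x = x := hbij.1 (by
      rw [map_mul, hx]
      funext i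
      rcases eq_or_ne i ⟨m, hm⟩ with rfl | hi
      · simp
      · simp [Pi.single_eq_of_ne hi])
    rcases IsIdempotentElem.iff_eq_zero_or_one.1 hid with rfl | rfl
    · have := congrFun hx ⟨m, hm⟩
      simp at this
    · have := congrFun hx ⟨m', hm'⟩
      rw [Pi.single_eq_of_ne (show (⟨m', hm'⟩ : MaximalSpectrum A') ≠ ⟨m, hm⟩ from fun h =>
        hne (MaximalSpectrum.ext_iff.1 h))] at this
      simp at this
  haveI := GrothLib.AdicExtra.isAdicComplete_localRing (R := A) (S := A')
  exact isJ0_of_isAdicComplete A'

end GrothLib.J2
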