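import Groth.Agent.Lib.J2.Criterion
import Groth.Agent.Lib.GenFree.Presentation
import Mathlib.RingTheory.Etale.Field
import Mathlib.RingTheory.Smooth.Locus
import Mathlib.RingTheory.Algebraic.Integral

/-!
# J-2 rings: reduction to finite domains (EGA IV 6.12.4)
-/

set_option autoImplicit false
set_option linter.style.haveILetI false
universe u

open IsLocalRing TensorProduct

namespace GrothLib.J2

/-- A domain generically smooth over a generically regular subring is generically regular. -/
theorem isJ0_of_formallySmooth {A B M : Type u} [CommRing A] [IsNoetherianRing A] [IsDomain A]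
    [CommRing B] [IsDomain B] [Algebra A B] [Algebra.FiniteType A B]
    (hinj : Function.Injective (algebraMap A B)) (hA : IsJ0 A)
    [Field M] [Algebra B M] [IsFractionRing B M] [Algebra A M] [IsScalarTower A B M]
    [Algebra.FormallySmooth A M] : IsJ0 B := by
  obtain ⟨g, hg, hreg⟩ := hA
  haveI := hreg
  haveI : Algebra.FinitePresentation A B := Algebra.FinitePresentation.of_finiteType.mp inferInstance
  haveI : IsLocalization (⊥ : Ideal B).primeCompl M := by rw [Ideal.primeCompl_bot]; infer_instance
  let e : M ≃ₐ[B] Localization.AtPrime (⊥ : Ideal B) :=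
    IsLocalization.algEquiv (⊥ : Ideal B).primeCompl _ _
  haveI : Algebra.IsSmoothAt A (⊥ : Ideal B) := Algebra.FormallySmooth.of_equiv (e.restrictScalars A)
  obtain ⟨f, hf, hsm⟩ := Algebra.IsSmoothAt.exists_notMem_smooth A (⊥ : Ideal B)
  have hf0 : f ≠ 0 := fun h => hf ((Ideal.mem_bot).2 h)
  haveI : Algebra.Smooth (Localization.Away g) (Localization.Away g ⊗[A] Localization.Away f) := inferInstance
  haveI : IsRegularRing (Localization.Away g ⊗[A] Localization.Away f) :=
    GrothLib.GeomReg.isRegularRing_of_smooth (Localization.Away g) _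
  let h := algebraMap A B g * f
  have h0 : h ≠ 0 := mul_ne_zero (fun e => hg (hinj (e.trans (map_zero _).symm))) hf0
  haveI : IsNoetherianRing B := Algebra.FiniteType.isNoetherianRing A B
  refine ⟨h, h0, isRegularRing_away h fun q hq => ?_⟩
  have hgq : algebraMap A B g ∉ q.asIdeal := fun e => hq (q.asIdeal.mul_mem_right _ e)
  have hfq : f ∉ q.asIdeal := fun e => hq (q.asIdeal.mul_mem_left _ e)
  -- `A_g ⊗ B_f` is the localisation of `B` at `f` and `g`
  haveI : IsLocalization.Away (algebraMap A (Localization.Away f) g)
      (Localization.Away f ⊗[A] Localization.Away g) := inferInstance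
  haveI : IsRegularRing (Localization.Away f ⊗[A] Localization.Away g) :=
    IsRegularRing.of_ringEquiv (R := Localization.Away g ⊗[A] Localization.Away f)
      (Algebra.TensorProduct.comm A (Localization.Away g) (Localization.Away f)).toRingEquiv
  haveI : IsRegularRing (Localization.Away (algebraMap A (Localization.Away f) g)) :=
    IsRegularRing.of_ringEquiv (R := Localization.Away f ⊗[A] Localization.Away g)
      (IsLocalization.algEquiv (Submonoid.powers (algebraMap A (Localization.Away f) g)) _ _).toRingEquiv
  have hdisj : Disjoint (Submonoid.powers f : Set B) q.asIdeal := by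
    rw [Set.disjoint_left]
    rintro _ ⟨n, rfl⟩ hn
    exact hfq (q.isPrime.mem_of_pow_mem n hn)
  let Q := q.asIdeal.map (algebraMap B (Localization.Away f))
  haveI : Q.IsPrime := IsLocalization.isPrime_of_isPrime_disjoint (Submonoid.powers f) _ _ q.isPrime hdisj
  have hQ : Q.comap (algebraMap B (Localization.Away f)) = q.asIdeal :=
    IsLocalization.comap_map_of_isPrime_disjoint (Submonoid.powers f) _ q.isPrime hdisj
  have hgQ : algebraMap A (Localization.Away f) g ∉ Q := fun e => hgq (by
    rw [← hQ, Ideal.mem_comap, ← IsScalarTower.algebraMap_apply]; exact e)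
  exact isRegularLocalRing_congr hQ
    ((isRegularLocalRing_iff_comap (Submonoid.powers f) Q).mp (isRegularLocalRing_of_away _ Q hgQ))

/-- Generic regularity descends along injective maps of finite type. -/
theorem isJ0_of_injective {B B' : Type u} [CommRing B] [IsDomain B] [IsNoetherianRing B] [CommRing B']
    [IsDomain B'] [Algebra B B'] [Algebra.FiniteType B B'] (hinj : Function.Injective (algebraMap B B'))
    (h : IsJ0 B') : IsJ0 B := by
  obtain ⟨f, hf, hreg⟩ := h
  haveI := hreg
  haveI : IsNoetherianRing B' := Algebra.FiniteType.isNoetherianRing B B'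
  haveI : Algebra.FiniteType B (Localization.Away f) := Algebra.FiniteType.trans (S := B') inferInstance inferInstance
  obtain ⟨c, -, hc, hfree, -, -, -⟩ := GenFree.exists_free_and_finitePresentation (R := B)
    (Localization.Away f) (Localization.Away f) (1 : B) one_ne_zero
  haveI := hfree
  haveI : IsDomain (Localization.Away f) :=
    IsLocalization.isDomain_localization (powers_le_nonZeroDivisors_of_noZeroDivisors hf)
  have hinj' : Function.Injective (algebraMap B (Localization.Away f)) := by
    rw [IsScalarTower.algebraMap_eq B B' (Localization.Away f)]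
    exact (IsLocalization.injective (Localization.Away f) (powers_le_nonZeroDivisors_of_noZeroDivisors hf)).comp hinj
  let c' := algebraMap B (Localization.Away f) c
  have hc' : c' ≠ 0 := fun e => hc (hinj' (e.trans (map_zero _).symm))
  haveI : IsRegularRing (Localization.Away c') := GrothLib.GeomReg.isRegularRing_of_isLocalization (Submonoid.powers c') _
  haveI : IsRegularRing (Localization.Away f ⊗[B] Localization.Away c) :=
    IsRegularRing.of_ringEquiv (R := Localization.Away c')
      (IsLocalization.algEquiv (Submonoid.powers c') _ _).toRingEquiv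
  haveI : IsRegularRing (Localization.Away c ⊗[B] Localization.Away f) :=
    IsRegularRing.of_ringEquiv (R := Localization.Away f ⊗[B] Localization.Away c)
      (Algebra.TensorProduct.comm B (Localization.Away f) (Localization.Away c)).toRingEquiv
  haveI : Nontrivial (Localization.Away c') :=
    (IsLocalization.injective _ (powers_le_nonZeroDivisors_of_noZeroDivisors hc')).nontrivial
  haveI : Nontrivial (Localization.Away c ⊗[B] Localization.Away f) :=
    ((Algebra.TensorProduct.comm B (Localization.Away c) (Localization.Away f)).toRingEquiv.trans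
      (IsLocalization.algEquiv (Submonoid.powers c') (Localization.Away f ⊗[B] Localization.Away c)
        (Localization.Away c')).toRingEquiv).toEquiv.nontrivial
  haveI : Module.FaithfullyFlat (Localization.Away c) (Localization.Away c ⊗[B] Localization.Away f) :=
    inferInstance
  exact ⟨c, hc, GrothLib.Serre.isRegularRing_of_faithfullyFlat (Localization.Away c)
    (Localization.Away c ⊗[B] Localization.Away f)⟩

/-- The finite domains over `A` are generically regular. -/
def FiniteJ0 (A : Type u) [CommRing A] : Prop :=
  ∀ (A' : Type u) [CommRing A'] [IsDomain A'] [Algebra A A'], Module.Finite A A' → IsJ0 A'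

set_option maxHeartbeats 1000000 in
/-- **Domains of finite type over `A` are generically regular.** -/
theorem isJ0_of_finiteType {A : Type u} [CommRing A] [IsNoetherianRing A] (H : FiniteJ0 A) (B : Type u)
    [CommRing B] [IsDomain B] [Algebra A B] [Algebra.FiniteType A B] : IsJ0 B := by
  classical
  haveI : IsNoetherianRing B := Algebra.FiniteType.isNoetherianRing A B
  let A₁ := A ⧸ RingHom.ker (algebraMap A B)
  haveI : (RingHom.ker (algebraMap A B)).IsPrime := RingHom.ker_isPrime _
  letI : Algebra A₁ B := (RingHom.kerLift (algebraMap A B)).toAlgebra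
  haveI : IsScalarTower A A₁ B := IsScalarTower.of_algebraMap_eq fun _ => rfl
  haveI : Algebra.FiniteType A₁ B := Algebra.FiniteType.of_restrictScalars_finiteType A A₁ B
  have hinjA : Function.Injective (algebraMap A₁ B) := RingHom.kerLift_injective _
  let K := FractionRing A₁
  let L := FractionRing B
  haveI : FaithfulSMul A₁ L := (faithfulSMul_iff_algebraMap_injective A₁ L).mpr (by
    rw [IsScalarTower.algebraMap_eq A₁ B L]; exact (IsFractionRing.injective B L).comp hinjA)
  letI : Algebra K L := FractionRing.liftAlgebra A₁ L
  haveI : Algebra.EssFiniteType A₁ L := Algebra.EssFiniteType.comp A₁ B L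
  haveI : Algebra.EssFiniteType K L := Algebra.EssFiniteType.of_comp A₁ K L
  obtain ⟨k', M, _, _, _, _, _, _, _, _, hfin, hess, hfs⟩ := GeomReg.exists_formallySmooth_extension K L
  haveI := hfin
  letI : Algebra A₁ k' := ((algebraMap K k').comp (algebraMap A₁ K)).toAlgebra
  haveI : IsScalarTower A₁ K k' := IsScalarTower.of_algebraMap_eq fun _ => rfl
  letI : Algebra A₁ M := ((algebraMap K M).comp (algebraMap A₁ K)).toAlgebra
  haveI : IsScalarTower A₁ K M := IsScalarTower.of_algebraMap_eq fun _ => rfl
  haveI : IsScalarTower A₁ k' M := IsScalarTower.of_algebraMap_eq fun a => IsScalarTower.algebraMap_apply K k' M _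
  letI : Algebra B M := ((algebraMap L M).comp (algebraMap B L)).toAlgebra
  haveI : IsScalarTower B L M := IsScalarTower.of_algebraMap_eq fun _ => rfl
  haveI : IsScalarTower A₁ B M := IsScalarTower.of_algebraMap_eq fun a => by
    show algebraMap K M (algebraMap A₁ K a) = algebraMap L M (algebraMap B L (algebraMap A₁ B a))
    rw [← IsScalarTower.algebraMap_apply A₁ B L, IsScalarTower.algebraMap_apply A₁ K L,
      ← IsScalarTower.algebraMap_apply K L M]
  -- a finite domain with fraction field `k'`
  obtain ⟨s, hs⟩ := (inferInstance : Module.Finite K k').fg_top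
  haveI := IsLocalization.isAlgebraic K (nonZeroDivisors A₁)
  haveI := Algebra.IsAlgebraic.trans A₁ K k'
  obtain ⟨y, hy, hint⟩ := Algebra.IsAlgebraic.exists_integral_multiples A₁ s
  let A' := Algebra.adjoin A₁ ((fun z => y • z) '' (s : Set k'))
  have hA'fg : A'.toSubmodule.FG := fg_adjoin_of_finite (s.finite_toSet.image _) fun x hx => by
    obtain ⟨z, hz, rfl⟩ := hx
    exact hint z hz
  haveI : Module.Finite A₁ A' := Module.Finite.iff_fg.mpr hA'fg
  haveI : Module.Finite A A₁ := Module.Finite.of_surjective (Algebra.linearMap A A₁) Ideal.Quotient.mk_surjective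
  letI : Algebra A A' := ((algebraMap A₁ A').comp (algebraMap A A₁)).toAlgebra
  haveI : IsScalarTower A A₁ A' := IsScalarTower.of_algebraMap_eq fun _ => rfl
  haveI : Module.Finite A A' := Module.Finite.trans A₁ A'
  have hJA' := H A' inferInstance
  haveI : IsNoetherianRing A' := IsNoetherianRing.of_finite A₁ A'
  haveI : IsFractionRing A' k' := IsFractionRing.of_field A' k' fun z => by
    have hz : z ∈ Submodule.span K (s : Set k') := hs ▸ Submodule.mem_top
    obtain ⟨d, hd⟩ : ∃ d : nonZeroDivisors A₁, (d : A₁) • (y • z) ∈ A'.toSubmodule := by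
      induction hz using Submodule.span_induction with
      | mem x hx => exact ⟨1, by rw [OneMemClass.coe_one, one_smul]; exact Algebra.subset_adjoin ⟨x, hx, rfl⟩⟩
      | zero => exact ⟨1, by rw [smul_zero, smul_zero]; exact zero_mem _⟩
      | add x x' _ _ hx hx' =>
        obtain ⟨d, hd⟩ := hx
        obtain ⟨d', hd'⟩ := hx'
        refine ⟨d * d', ?_⟩
        rw [smul_add, smul_add, Submonoid.coe_mul]
        refine add_mem ?_ ?_
        · rw [mul_comm, mul_smul]; exact A'.toSubmodule.smul_mem _ hd
        · rw [mul_smul]; exact A'.toSubmodule.smul_mem _ hd'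
      | smul c x _ hx =>
        obtain ⟨d, hd⟩ := hx
        obtain ⟨a, t, rfl⟩ := IsLocalization.exists_mk'_eq (nonZeroDivisors A₁) c
        refine ⟨t * d, ?_⟩
        have h1 : ((t * d : nonZeroDivisors A₁) : A₁) • (y • (IsLocalization.mk' K a t • x)) =
            a • ((d : A₁) • (y • x)) := by
          rw [Submonoid.coe_mul, ← IsScalarTower.algebraMap_smul K a, ← IsScalarTower.algebraMap_smul K ((t : A₁) * d),
            ← IsScalarTower.algebraMap_smul K (d : A₁), ← IsScalarTower.algebraMap_smul K y,
            ← IsScalarTower.algebraMap_smul K y, smul_smul, smul_smul, smul_smul, smul_smul,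
            ← IsLocalization.mk'_spec K a t, map_mul]
          congr 1
          ring
        rw [h1]
        exact A'.toSubmodule.smul_mem _ hd
    refine ⟨⟨_, hd⟩, algebraMap A₁ A' (d * y), ?_⟩
    have hne : algebraMap A₁ k' (d * y) ≠ 0 := by
      rw [IsScalarTower.algebraMap_apply A₁ K k']
      exact fun h => mul_ne_zero (nonZeroDivisors.coe_ne_zero d) hy
        (IsFractionRing.injective A₁ K (((algebraMap K k').injective (h.trans (map_zero _).symm)).trans (map_zero _).symm))
    rw [eq_div_iff (by rwa [← IsScalarTower.algebraMap_apply]), ← IsScalarTower.algebraMap_apply, mul_comm,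
      ← Algebra.smul_def, mul_smul]
    rfl
  haveI : Algebra.FormallySmooth A' k' := Algebra.FormallySmooth.of_isLocalization (nonZeroDivisors A')
  haveI : Algebra.FormallySmooth A' M := Algebra.FormallySmooth.comp A' k' M
  -- the ring generated by `B` and finitely many generators of `M`
  obtain ⟨u, hu⟩ := IntermediateField.fg_top k' M
  obtain ⟨sB, hsB⟩ := (inferInstance : Algebra.FiniteType A₁ B).out
  let B' := Algebra.adjoin A' ((↑u : Set M) ∪ algebraMap B M '' sB)
  haveI : Algebra.FiniteType A' B' := (Subalgebra.fg_iff_finiteType B').mp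
    ⟨u ∪ sB.image (algebraMap B M), by rw [Finset.coe_union, Finset.coe_image]⟩
  haveI : IsScalarTower A₁ A' M := IsScalarTower.of_algebraMap_eq fun a => IsScalarTower.algebraMap_apply A₁ k' M a
  have hBB' : ∀ b, algebraMap B M b ∈ B' := fun b => by
    have hb : b ∈ Algebra.adjoin A₁ (sB : Set B) := hsB ▸ Algebra.mem_top
    induction hb using Algebra.adjoin_induction with
    | mem x hx => exact Algebra.subset_adjoin (Or.inr ⟨x, hx, rfl⟩)
    | algebraMap r =>
      rw [← IsScalarTower.algebraMap_apply, IsScalarTower.algebraMap_apply A₁ A' M]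
      exact B'.algebraMap_mem _
    | add x y _ _ hx hy => rw [map_add]; exact B'.add_mem hx hy
    | mul x y _ _ hx hy => rw [map_mul]; exact B'.mul_mem hx hy
  letI : Algebra B B' := ((algebraMap B M).codRestrict B' hBB').toAlgebra
  haveI : IsScalarTower B B' M := IsScalarTower.of_algebraMap_eq fun _ => rfl
  letI : Algebra A₁ B' := ((algebraMap A' B').comp (algebraMap A₁ A')).toAlgebra
  haveI : IsScalarTower A₁ A' B' := IsScalarTower.of_algebraMap_eq fun _ => rfl
  haveI : IsScalarTower A₁ B B' := IsScalarTower.of_algebraMap_eq fun a => Subtype.ext (by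
    show algebraMap A' M (algebraMap A₁ A' a) = algebraMap B M (algebraMap A₁ B a)
    rw [← IsScalarTower.algebraMap_apply, ← IsScalarTower.algebraMap_apply])
  haveI : Algebra.FiniteType A₁ B' := Algebra.FiniteType.trans (S := A') inferInstance inferInstance
  haveI : Algebra.FiniteType B B' := Algebra.FiniteType.of_restrictScalars_finiteType A₁ B B'
  haveI : IsFractionRing B' M := IsFractionRing.of_field B' M fun z => by
    let T : IntermediateField k' M :=
      { carrier := {z | ∃ a ∈ B', ∃ b ∈ B', z = a / b}
        zero_mem' := ⟨0, B'.zero_mem, 1, B'.one_mem, by simp⟩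
        one_mem' := ⟨1, B'.one_mem, 1, B'.one_mem, by simp⟩
        add_mem' := by
          rintro _ _ ⟨a, ha, b, hb, rfl⟩ ⟨c, hc, d, hd, rfl⟩
          rcases eq_or_ne b 0 with rfl | hb0
          · exact ⟨c, hc, d, hd, by simp⟩
          rcases eq_or_ne d 0 with rfl | hd0
          · exact ⟨a, ha, b, hb, by simp⟩
          exact ⟨_, B'.add_mem (B'.mul_mem ha hd) (B'.mul_mem hb hc), _, B'.mul_mem hb hd, div_add_div _ _ hb0 hd0⟩
        mul_mem' := by
          rintro _ _ ⟨a, ha, b, hb, rfl⟩ ⟨c, hc, d, hd, rfl⟩
          exact ⟨_, B'.mul_mem ha hc, _, B'.mul_mem hb hd, div_mul_div_comm ..⟩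
        algebraMap_mem' := fun c => by
          obtain ⟨a, b, -, rfl⟩ := IsFractionRing.div_surjective A' c
          exact ⟨_, B'.algebraMap_mem a, _, B'.algebraMap_mem b, map_div₀ (algebraMap k' M) _ _⟩
        inv_mem' := by
          rintro _ ⟨a, ha, b, hb, rfl⟩
          exact ⟨b, hb, a, ha, inv_div a b⟩ }
    have hT : T = ⊤ := by
      rw [eq_top_iff, ← hu, IntermediateField.adjoin_le_iff]
      exact fun x hx => ⟨x, Algebra.subset_adjoin (Or.inl hx), 1, B'.one_mem, by simp⟩
    obtain ⟨a, ha, b, hb, rfl⟩ : z ∈ T := hT ▸ trivial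
    exact ⟨⟨a, ha⟩, ⟨b, hb⟩, rfl⟩
  have hJB' : IsJ0 B' := isJ0_of_formallySmooth (M := M) (fun x y h => by
    have := congrArg (Subtype.val) h
    exact IsFractionRing.injective A' k' ((algebraMap k' M).injective this)) hJA'
  exact isJ0_of_injective (B := B) (B' := B') (fun x y h => IsFractionRing.injective B L
    ((algebraMap L M).injective (congrArg Subtype.val h))) hJB'

/-- **A ring is J-2 once its finite domains are generically regular.** -/
theorem isJ2_of_finiteJ0 {A : Type u} [CommRing A] [IsNoetherianRing A] (H : FiniteJ0 A) : EGA4.IsJ2 A := by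
  intro S _ _ hS
  haveI : IsNoetherianRing S := Algebra.FiniteType.isNoetherianRing A S
  exact isOpen_regLocus fun p _ =>
    haveI : Algebra.FiniteType A (S ⧸ p) := Algebra.FiniteType.of_surjective
      (Ideal.Quotient.mkₐ A p) Ideal.Quotient.mk_surjective
    isJ0_of_finiteType H (S ⧸ p)

/-- Generic regularity of a domain with field of fractions inverting one element. -/
theorem isJ0_of_isField_away {S : Type u} [CommRing S] (f : S) (hf : f ≠ 0)
    (h : IsField (Localization.Away f)) : IsJ0 S := by
  refine ⟨f, hf, ?_⟩
  letI := h.toField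
  haveI : IsArtinianRing (Localization.Away f) := inferInstance
  exact GrothLib.GeomReg.isRegularRing_of_isArtinian_of_isReduced _

/-- Fields have generically regular finite domains. -/
theorem finiteJ0_of_field (k : Type u) [Field k] : FiniteJ0 k := fun A' _ _ _ _ => by
  have hA : IsField A' := isField_of_isIntegral_of_isField' (R := k) (Field.toIsField k)
  refine isJ0_of_isField_away 1 one_ne_zero ?_
  exact (IsLocalization.atUnit A' (Localization.Away (1 : A')) 1 isUnit_one).symm.toMulEquiv.isField hA

end GrothLib.J2
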