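import Groth.Agent.Lib.PBasis.Field
import Groth.Agent.Lib.SepField.Smooth
import Mathlib.Algebra.CharP.Lemmas
import Mathlib.FieldTheory.Finite.Basic

/-!
# Subfields of finite index and descent of spans
-/

set_option autoImplicit false
universe u

open EGA41

namespace GrothLib.J2

/-- A field of characteristic `p` has a decreasing family of subfields of finite index meeting in `k ^ p`. -/
theorem exists_subfield_family (p : ℕ) [hp : Fact p.Prime] (k : Type u) [Field k] [CharP k p] :
    ∃ (ι : Type u) (F : Finset ι → Subfield k), (∀ s t, s ⊆ t → F t ≤ F s) ∧ (∀ s x, x ^ p ∈ F s) ∧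
      (∀ s, FiniteDimensional (F s) k) ∧ ∀ x, (∀ s, x ∈ F s) → ∃ y, y ^ p = x := by
  classical
  let k0 := GrothLib.SepField.PrimeFld.{u} p
  letI : Algebra k0 k := ((ZMod.castHom (dvd_refl p) k).comp ULift.ringEquiv.toRingHom).toAlgebra
  obtain ⟨B, -, hB⟩ := PBasis.exists_pBasis_superset (p := p) (k := k0) (K := k) (ι := PEmpty.{u+1})
    (x := PEmpty.elim) ((PBasis.isPIndependent_iff _).2 fun a => a.elim)
  refine ⟨B, fun s => (PBasis.genField p k0 (B \ Subtype.val '' (s : Set B))).toSubfield,
    fun s t hst => PBasis.genField_mono (Set.sdiff_subset_sdiff_right (Set.image_mono hst)),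
    fun s x => PBasis.pPower_le_genField _ (Algebra.subset_adjoin ⟨x, rfl⟩), fun s => ?_, fun x hx => ?_⟩
  · set F := (PBasis.genField p k0 (B \ Subtype.val '' (s : Set B))).toSubfield
    let T : Set k := Subtype.val '' (s : Set B)
    haveI : Finite T := s.finite_toSet.image _
    haveI hfin : FiniteDimensional F (IntermediateField.adjoin F T) :=
      IntermediateField.finiteDimensional_adjoin fun y _ => IsIntegral.of_pow hp.out.pos
        (isIntegral_algebraMap (R := F) (x := ⟨y ^ p, PBasis.pPower_le_genField _ (Algebra.subset_adjoin ⟨y, rfl⟩)⟩))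
    have htop : IntermediateField.adjoin F T = ⊤ := eq_top_iff.2 fun z hz0 => by
      clear hz0
      have hz : z ∈ PBasis.genField p k0 B := by
        have := (PBasis.isPGenerating_iff (p := p) (k := k0) (Subtype.val : B → k)).1 hB.2
        rw [Subtype.range_coe] at this
        rw [this]; trivial
      induction hz using IntermediateField.adjoin_induction with
      | mem y hy =>
        by_cases hyT : y ∈ T
        · exact IntermediateField.subset_adjoin F T hyT
        · have hyF : y ∈ F := by
            rcases hy with ⟨w, rfl⟩ | hy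
            · exact PBasis.pPower_le_genField _ (Algebra.subset_adjoin ⟨w, rfl⟩)
            · exact PBasis.subset_genField _ ⟨hy, hyT⟩
          exact (IntermediateField.adjoin F T).algebraMap_mem ⟨y, hyF⟩
      | algebraMap r =>
        exact (IntermediateField.adjoin F T).algebraMap_mem
          ⟨algebraMap k0 k r, IntermediateField.algebraMap_mem _ r⟩
      | add _ _ _ _ h1 h2 => exact add_mem h1 h2
      | inv _ _ h1 => exact inv_mem h1
      | mul _ _ _ _ h1 h2 => exact mul_mem h1 h2
    haveI : FiniteDimensional F (⊤ : IntermediateField F k) := htop ▸ hfin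
    exact (IntermediateField.topEquiv (F := F) (E := k)).toLinearEquiv.finiteDimensional
  · obtain ⟨b, hb⟩ := PBasis.exists_basis_kaehler (CharP.cast_eq_zero k p) (Subtype.val : B → k) hB
    have hrepr : ∀ i : B, b.repr (KaehlerDifferential.D k0 k x) i = 0 := fun i => by
      have h1 := PBasis.D_mem_span (p := p) (hx {i})
      have h2 : KaehlerDifferential.D k0 k x ∈ Submodule.span k (b '' {j | j ≠ i}) := by
        refine Submodule.span_mono ?_ h1
        rintro _ ⟨y, ⟨hy, hyi⟩, rfl⟩
        refine ⟨⟨y, hy⟩, fun e => hyi ?_, hb _⟩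
        exact ⟨i, by simp, by rw [← e]⟩
      rw [b.mem_span_image] at h2
      by_contra hne
      exact h2 (Finsupp.mem_support_iff.2 hne) rfl
    have hDx : KaehlerDifferential.D k0 k x = 0 :=
      b.repr.injective (Finsupp.ext fun i => by simp [hrepr i])
    have hx0 : x ∈ PBasis.genField p k0 (∅ : Set k) := by
      by_contra hne
      have h3 : IsPIndependent p k0 (fun _ : PUnit.{u+1} => x) := by
        rw [PBasis.isPIndependent_iff]
        intro a
        rwa [show (fun _ : PUnit.{u+1} => x) '' {b | b ≠ a} = ∅ by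
          rw [Set.image_eq_empty]; ext b; simp]
      exact ((PBasis.isPIndependent_iff_linearIndependent _).1 h3).ne_zero PUnit.unit hDx
    clear hx hrepr hDx
    induction hx0 using IntermediateField.adjoin_induction with
    | mem y hy =>
      rcases hy with ⟨w, rfl⟩ | hy
      · exact ⟨w, rfl⟩
      · exact absurd hy (Set.notMem_empty y)
    | algebraMap r => exact ⟨algebraMap k0 k r, by rw [← map_pow]; exact congrArg _ (ULift.ext _ _ (ZMod.pow_card (p := p) _))⟩
    | add _ _ _ _ h1 h2 =>
      obtain ⟨y, rfl⟩ := h1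
      obtain ⟨z, rfl⟩ := h2
      exact ⟨y + z, add_pow_char y z p⟩
    | inv _ _ h1 =>
      obtain ⟨y, rfl⟩ := h1
      exact ⟨y⁻¹, inv_pow y p⟩
    | mul _ _ _ _ h1 h2 =>
      obtain ⟨y, rfl⟩ := h1
      obtain ⟨z, rfl⟩ := h2
      exact ⟨y * z, mul_pow y z p⟩

/-- Descent of spans along a decreasing family of subfields. -/
theorem exists_notMem_span {L : Type u} [Field L] {ι : Type u} (Ks : Finset ι → Subfield L)
    (hanti : ∀ s t, s ⊆ t → Ks t ≤ Ks s) (K0 P : Subfield L) (h0 : ∀ s, K0 ≤ Ks s)
    (hinter : ∀ x, (∀ s, x ∈ Ks s) → x ∈ K0) (h0P : K0 ≤ P) {m : ℕ} (u : Fin m → L) (hu : ∀ i, u i ∈ P)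
    {a : L} (ha : a ∉ P) : ∃ s, a ∉ Submodule.span (Ks s) (Set.range u) := by
  classical
  by_contra hall
  push Not at hall
  have hmono : ∀ (J : Finset (Fin m)) (s t : Finset ι), s ⊆ t →
      LinearIndependent (Ks s) (fun j : J => u j) → LinearIndependent (Ks t) (fun j : J => u j) := by
    intro J s t hst h
    rw [Fintype.linearIndependent_iff] at h ⊢
    intro g hg i
    have h' := h (fun j => ⟨(g j : L), hanti s t hst (g j).2⟩) (by
      rw [← hg]; exact Finset.sum_congr rfl fun j _ => rfl) i
    exact Subtype.ext (congrArg Subtype.val h' :)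
  let P' : Finset (Fin m) → Prop := fun J => ∃ s, LinearIndependent (Ks s) (fun j : J => u j)
  obtain ⟨J, hJ, hmax⟩ := Finset.exists_max_image ((Finset.univ : Finset (Finset (Fin m))).filter P')
    Finset.card ⟨∅, Finset.mem_filter.2 ⟨Finset.mem_univ _, ∅, linearIndependent_empty_type⟩⟩
  obtain ⟨s0, hs0⟩ := (Finset.mem_filter.1 hJ).2
  have hspan : ∀ t, s0 ⊆ t → ∀ i, u i ∈ Submodule.span (Ks t) (Set.range fun j : J => u j) := by
    intro t ht i
    by_contra hi
    have hiJ : i ∉ J := fun h => hi (Submodule.subset_span ⟨⟨i, h⟩, rfl⟩)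
    have hins : LinearIndependent (Ks t) (fun j : (insert i J : Finset (Fin m)) => u j) := by
      have h1 : LinearIndepOn (Ks t) u (J : Set (Fin m)) := hmono J s0 t ht hs0
      have h2 := h1.insert (x := i) (by
        rwa [show u '' (J : Set (Fin m)) = Set.range (fun j : J => u j) by
          ext y; simp [Set.mem_image]])
      rw [← Finset.coe_insert] at h2
      exact h2
    have := hmax (insert i J) (Finset.mem_filter.2 ⟨Finset.mem_univ _, t, hins⟩)
    rw [Finset.card_insert_of_notMem hiJ] at this
    omega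
  have hcoef : ∀ t, s0 ⊆ t → ∃ c : J → L, (∀ j, c j ∈ Ks t) ∧ ∑ j, c j * u j = a := by
    intro t ht
    have h1 : a ∈ Submodule.span (Ks t) (Set.range fun j : J => u j) := by
      refine (Submodule.span_le.2 ?_) (hall t)
      rintro _ ⟨i, rfl⟩
      exact hspan t ht i
    obtain ⟨c, hc⟩ := (Submodule.mem_span_range_iff_exists_fun (Ks t)).1 h1
    exact ⟨fun j => c j, fun j => (c j).2, hc⟩
  obtain ⟨c, hc, hca⟩ := hcoef s0 subset_rfl
  have hcK : ∀ j, c j ∈ K0 := fun j => hinter _ fun s => by
    obtain ⟨c', hc', hca'⟩ := hcoef (s0 ∪ s) Finset.subset_union_left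
    have heq := Fintype.linearIndependent_iff.1 hs0
      (fun i => ⟨c i - c' i, sub_mem (hc i) (hanti _ _ Finset.subset_union_left (hc' i))⟩) (by
        show ∑ i, (c i - c' i) * u i = 0
        simp only [sub_mul, Finset.sum_sub_distrib]
        rw [hca, hca', sub_self]) j
    rw [sub_eq_zero.1 (congrArg Subtype.val heq :)]
    exact hanti _ _ Finset.subset_union_right (hc' j)
  exact ha (hca ▸ sum_mem fun j _ => mul_mem (h0P (hcK j)) (hu _))

end GrothLib.J2
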